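import Cfsg.Agent.Coprime.J1.ByOrder.Nonsolvable
import Cfsg.Agent.H26.KleinSylow
import Cfsg.Agent.H70.Sixty
import Cfsg.Agent.H27.ProjLine
import Cfsg.Agent.S0948
import Cfsg.Agent.S4479

/-!
# The involution centraliser of a simple group of order 175560 is `2 × A₅`

Its derived series ends in a perfect group with a four group as Sylow two-subgroup, whose order is
determined by the order formula from the principal two-block and the Sylow data.
-/

set_option autoImplicit false
set_option linter.unusedSectionVars false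
set_option linter.style.haveILetI false

namespace Cfsg.Agent.Coprime.J1.ByOrder

open Subgroup
open Cfsg.Agent.S4274 (Dat opts)

set_option synthInstance.maxSize 4000 in
set_option synthInstance.maxHeartbeats 400000 in
set_option maxHeartbeats 1600000 in
/-- The equation of the order formula in a perfect group with Klein four Sylow subgroups. -/
theorem klein_arith : ∀ d ∈ Nat.divisors 21945, ∀ x ∈ Nat.divisors 21945, x ∣ d → x % 4 = 1 → x ≠ 1 →
    ∀ y ∈ Nat.divisors 21945, y ∣ d →
    (y % 4 = 1 → y ≠ 1 → 1 + x + y ∣ d → ∀ b ∈ Nat.divisors 21945, b ∣ d → ∀ a ∈ ([1, 11] : List ℕ), a ∣ b →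
      d * a * a * (x + 1) * (y + 1) * (x + y) = 8 * x * y * (1 + x + y) * b ^ 3 →
        d = 15 ∨ (d = 165 ∧ a = 1 ∧ b = 3) ∨ (d = 165 ∧ a = 11) ∨ (d = 1155 ∧ b = 5)) ∧
    (y % 4 = 3 → y < 1 + x → (1 + x - y) % 4 = 3 → 1 + x - y ∣ d →
      ∀ b ∈ Nat.divisors 21945, b ∣ d → ∀ a ∈ ([1, 11] : List ℕ), a ∣ b →
      d * a * a * (x + 1) * (y - 1) * (x - y) = 8 * x * y * (1 + x - y) * b ^ 3 →
        d = 15 ∨ (d = 165 ∧ a = 1 ∧ b = 3) ∨ (d = 165 ∧ a = 11) ∨ (d = 1155 ∧ b = 5)) := by
  decide +kernel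

variable {G : Type*} [Group G] [Finite G] [IsSimpleGroup G]

/-- The perfect subgroup of an involution centraliser. -/
structure Layer (t : G) where
  L : Subgroup G
  le : L ≤ centralizer ({t} : Set G)
  norm : centralizer ({t} : Set G) ≤ normalizer (L : Set G)
  perf : commutator L = ⊤
  ne : L ≠ ⊥

theorem exists_layer (hn : Nat.card G = 175560) {t : G} (ht : orderOf t = 2) : Nonempty (Layer t) := by
  classical
  set C := centralizer ({t} : Set G) with hC
  have hstab : ∃ k, derivedSeries C (k + 1) = derivedSeries C k := by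
    by_contra! h
    have hlt : ∀ k, Nat.card (derivedSeries C k) + k ≤ Nat.card C := by
      intro k
      induction k with
      | zero => simpa using card_le_card_group (derivedSeries C 0)
      | succ k ih =>
        have hle : derivedSeries C (k + 1) ≤ derivedSeries C k := derivedSeries_antitone C (Nat.le_succ k)
        have hne : Nat.card (derivedSeries C (k + 1)) ≠ Nat.card (derivedSeries C k) := fun he =>
          h k (eq_of_le_of_card_ge hle he.ge)
        have := Nat.le_of_dvd Nat.card_pos (card_dvd_of_le hle)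
        omega
    have h1 := hlt (Nat.card C + 1)
    omega
  obtain ⟨k, hk⟩ := hstab
  set D := derivedSeries C k with hD
  have hperf : ⁅D, D⁆ = D := by rw [hD, ← derivedSeries_succ, hk]
  have hne : D ≠ ⊥ := fun h => not_isSolvable hn ht ⟨⟨k, h⟩⟩
  have hDn : D.Normal := derivedSeries_normal C k
  refine ⟨{ L := D.map C.subtype, le := map_subtype_le D, norm := ?_, perf := ?_, ne := ?_ }⟩
  · intro c hc
    rw [mem_normalizer_iff]
    intro h
    constructor
    · rintro ⟨e, he, rfl⟩
      exact ⟨⟨c, hc⟩ * e * ⟨c, hc⟩⁻¹, hDn.conj_mem e he _, rfl⟩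
    · rintro ⟨e, he, heq⟩
      refine ⟨⟨c, hc⟩⁻¹ * e * ⟨c, hc⟩⁻¹⁻¹, hDn.conj_mem e he _, ?_⟩
      show c⁻¹ * (e : G) * c⁻¹⁻¹ = h
      rw [show (e : G) = c * h * c⁻¹ from heq]
      group
  · apply map_injective (D.map C.subtype).subtype_injective
    rw [map_subtype_commutator, ← map_commutator, hperf, ← MonoidHom.range_eq_map, range_subtype]
  · intro h
    exact hne ((map_eq_bot_iff_of_injective _ C.subtype_injective).1 h)

namespace Layer

variable {t : G}

theorem comm (Y : Layer t) {l : G} (hl : l ∈ Y.L) : l * t = t * l :=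
  mem_centralizer_singleton_iff.1 (Y.le hl)

theorem card_dvd (hn : Nat.card G = 175560) (Y : Layer t) : Nat.card Y.L ∣ 175560 :=
  hn ▸ card_subgroup_dvd_card Y.L

/-- Two-elements of the centraliser form subgroups of order at most eight with trivial squares. -/
theorem two_group (hn : Nat.card G = 175560) {H : Subgroup G} (hH : IsPGroup 2 H) :
    Nat.card H ∣ 8 ∧ (∀ a ∈ H, a * a = 1) ∧ ∀ a ∈ H, ∀ b ∈ H, a * b = b * a := by
  have : Fact (Nat.Prime 2) := ⟨Nat.prime_two⟩
  obtain ⟨Q, hQ⟩ := hH.exists_le_sylow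
  exact ⟨card_sylow_two hn Q ▸ card_dvd_of_le hQ, fun a ha => sq_eq_one hn Q a (hQ ha),
    fun a ha b hb => mul_comm_sylow hn Q (hQ ha) (hQ hb)⟩

theorem two_group_sub (hn : Nat.card G = 175560) (Y : Layer t) {H : Subgroup Y.L} (hH : IsPGroup 2 H) :
    (∀ a ∈ H, a * a = 1) ∧ ∀ a ∈ H, ∀ b ∈ H, a * b = b * a := by
  obtain ⟨-, h1, h2⟩ := two_group hn (hH.map Y.L.subtype)
  exact ⟨fun a ha => Subtype.ext (h1 a ⟨a, ha, rfl⟩),
    fun a ha b hb => Subtype.ext (h2 a ⟨a, ha, rfl⟩ b ⟨b, hb, rfl⟩)⟩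

theorem t_not_mem (hn : Nat.card G = 175560) (ht : orderOf t = 2) (Y : Layer t) : t ∉ Y.L := by
  intro h
  have : Fact (Nat.Prime 2) := ⟨Nat.prime_two⟩
  have hto : orderOf (⟨t, h⟩ : Y.L) = 2 := by rw [Subgroup.orderOf_mk, ht]
  have hc : ∀ g : Y.L, g * ⟨t, h⟩ = ⟨t, h⟩ * g := fun g => Subtype.ext (Y.comm g.2)
  obtain ⟨P⟩ := Sylow.nonempty (p := 2) (G := Y.L)
  have h1 := eq_one_of_fixed Y.perf P (two_group_sub hn Y P.2).2 (mem_sylow_of_central hto hc P)
    fun n _ => hc n
  rw [h1, orderOf_one] at hto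
  omega

theorem sylow_two (hn : Nat.card G = 175560) (ht : orderOf t = 2) (Y : Layer t) (R : Sylow 2 Y.L) :
    Nat.card (R : Subgroup Y.L) = 4 := by
  have : Fact (Nat.Prime 2) := ⟨Nat.prime_two⟩
  set R' := (R : Subgroup Y.L).map Y.L.subtype with hR'
  have hcard : Nat.card R' = Nat.card (R : Subgroup Y.L) := card_map_of_injective Y.L.subtype_injective
  obtain ⟨h8, -⟩ := two_group hn (R.2.map Y.L.subtype)
  have hne8 : Nat.card R' ≠ 8 := by
    intro h
    -- the join with the central involution is again a two-group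
    have hT : IsPGroup 2 (zpowers t) := IsPGroup.of_card (n := 1) (by rw [Nat.card_zpowers, ht, pow_one])
    have hle : zpowers t ≤ normalizer (R' : Set G) := by
      refine zpowers_le.2 (mem_normalizer_iff.2 fun x => ?_)
      have hx : ∀ y ∈ R', t * y * t⁻¹ = y := fun y hy => by
        obtain ⟨l, -, rfl⟩ := hy
        rw [Subgroup.coe_subtype, ← Y.comm l.2, mul_inv_cancel_right]
      constructor
      · intro h1; rw [hx x h1]; exact h1
      · intro h1
        have h2 := hx _ h1
        have h3 : t * x * t⁻¹ = x := mul_left_cancel (mul_right_cancel h2)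
        exact h3 ▸ h1
    have hsup := (R.2.map Y.L.subtype).to_sup_of_normal_left' hT hle
    obtain ⟨hd, -⟩ := two_group hn hsup
    have heq : R' = R' ⊔ zpowers t := eq_of_le_of_card_ge le_sup_left
      (by rw [h]; exact Nat.le_of_dvd (by norm_num) hd)
    have htR : t ∈ R' := heq.ge (mem_sup_right (mem_zpowers t))
    exact Y.t_not_mem hn ht (map_subtype_le _ htR)
  have hne1 : Nat.card R' ≠ 1 ∧ Nat.card R' ≠ 2 := by
    constructor
    · intro h
      have h2 : ¬ 2 ∣ Nat.card Y.L := fun hd => by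
        have := R.dvd_card_of_dvd_card hd
        rw [← hcard, h] at this
        norm_num at this
      have hsq := squarefree_of_odd hn (H := Y.L) (Nat.odd_iff.2 (by omega))
      exact Y.ne (Y.L.eq_bot_of_card_eq (card_eq_one_of_squarefree Y.perf hsq))
    · intro h
      apply exists_not_commute Y.perf R (hcard ▸ h)
      intro n hn'
      rw [mem_centralizer_iff]
      intro x hx
      by_cases hx1 : x = 1
      · rw [hx1, one_mul, mul_one]
      have hm := (mem_normalizer_iff.1 hn' x).1 hx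
      have hxo : orderOf x = 2 := orderOf_eq_prime (by rw [sq, (two_group_sub hn Y R.2).1 x hx]) hx1
      have heq : zpowers x = (R : Subgroup Y.L) := eq_of_le_of_card_ge (zpowers_le.2 hx)
        (by rw [Nat.card_zpowers, hxo, ← hcard, h])
      obtain ⟨i, hi⟩ := mem_zpowers_iff.1 (heq.ge hm)
      rcases Int.even_or_odd i with ⟨j, rfl⟩ | ⟨j, rfl⟩
      · exfalso
        rw [← two_mul, zpow_mul, zpow_two, ← sq, ← hxo, pow_orderOf_eq_one, one_zpow, eq_comm,
          mul_inv_eq_one, mul_eq_left] at hi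
        exact hx1 hi
      · rw [zpow_add_one, zpow_mul, zpow_two, ← sq, ← hxo, pow_orderOf_eq_one, one_zpow, one_mul] at hi
        exact (mul_inv_eq_iff_eq_mul.1 hi.symm).symm
  have hle := Nat.le_of_dvd (by norm_num) h8
  have hpos : 0 < Nat.card R' := Nat.card_pos
  rw [← hcard]
  interval_cases hq : Nat.card R' <;> omega

theorem isKleinFour (hn : Nat.card G = 175560) (ht : orderOf t = 2) (Y : Layer t) (R : Sylow 2 Y.L) :
    IsKleinFour (R : Subgroup Y.L) := by
  have h4 := Y.sylow_two hn ht R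
  haveI : Nontrivial (R : Subgroup Y.L) :=
    (Finite.one_lt_card_iff_nontrivial).1 (by rw [h4]; norm_num)
  exact ⟨h4, (Monoid.exponent_eq_prime_iff Nat.prime_two).2 fun x hx =>
    orderOf_eq_prime (Subtype.ext (by
      rw [Subgroup.coe_pow, sq]; exact (two_group_sub hn Y R.2).1 x x.2)) hx⟩

theorem no_complement (hn : Nat.card G = 175560) (ht : orderOf t = 2) (Y : Layer t) (R : Sylow 2 Y.L) :
    ¬ ∃ N : Subgroup Y.L, N.Normal ∧ IsComplement' N (R : Subgroup Y.L) := by
  rintro ⟨N, hN, hc⟩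
  have h4 := Y.sylow_two hn ht R
  haveI := hN
  let f : (R : Subgroup Y.L) →* Y.L ⧸ N := (QuotientGroup.mk' N).comp (R : Subgroup Y.L).subtype
  have hf : Function.Surjective f := by
    intro q
    obtain ⟨x, rfl⟩ := QuotientGroup.mk_surjective q
    obtain ⟨⟨⟨n, hn'⟩, r⟩, he, -⟩ := hc.existsUnique x
    refine ⟨r, ?_⟩
    show QuotientGroup.mk (r : Y.L) = QuotientGroup.mk x
    rw [QuotientGroup.eq, ← show (n : Y.L) * r = x from he]
    have := hN.conj_mem n hn' (r : Y.L)⁻¹
    simpa [mul_assoc] using this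
  have hcomm : ∀ a b : Y.L ⧸ N, a * b = b * a := by
    intro a b
    obtain ⟨a, rfl⟩ := hf a
    obtain ⟨b, rfl⟩ := hf b
    rw [← map_mul, ← map_mul]
    exact congrArg f (Subtype.ext ((two_group_sub hn Y R.2).2 a a.2 b b.2))
  have hle : commutator Y.L ≤ N := by
    rw [commutator_def, commutator_le]
    intro a _ b _
    rw [← QuotientGroup.eq_one_iff, ← QuotientGroup.mk'_apply, map_commutatorElement,
      commutatorElement_eq_one_iff_mul_comm]
    exact hcomm _ _
  rw [Y.perf, top_le_iff] at hle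
  subst hle
  rw [isComplement'_top_left] at hc
  rw [hc, card_bot] at h4
  omega

theorem isConj (hn : Nat.card G = 175560) (ht : orderOf t = 2) (Y : Layer t) {a b : Y.L}
    (ha : orderOf a = 2) (hb : orderOf b = 2) : IsConj a b := by
  have : Fact (Nat.Prime 2) := ⟨Nat.prime_two⟩
  obtain ⟨R⟩ := Sylow.nonempty (p := 2) (G := Y.L)
  rcases H26.klein_classes_one_or_three R (Y.isKleinFour hn ht R) with h | h
  · obtain ⟨hsub, -⟩ := Nat.card_eq_one_iff_unique.1 h
    exact ConjClasses.mk_eq_mk_iff_isConj.1 (congrArg Subtype.val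
      (Subsingleton.elim (α := {C : ConjClasses Y.L // ∃ t : Y.L, orderOf t = 2 ∧ ConjClasses.mk t = C})
        ⟨_, a, ha, rfl⟩ ⟨_, b, hb, rfl⟩))
  · exact absurd ((H26.klein_classes_three_iff R (Y.isKleinFour hn ht R)).1 h) (Y.no_complement hn ht R)

/-- The possible orders of the perfect subgroup with the centraliser orders of its involutions. -/
theorem order_cases (hn : Nat.card G = 175560) (ht : orderOf t = 2) (Y : Layer t) (R : Sylow 2 Y.L)
    {v : Y.L} (hvR : v ∈ (R : Subgroup Y.L)) (hv : orderOf v = 2) :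
    ∃ d a b : ℕ, Nat.card Y.L = 4 * d ∧
      Nat.card (centralizer ((R : Subgroup Y.L) : Set Y.L)) = 4 * a ∧
      Nat.card (centralizer ({v} : Set Y.L)) = 4 * b ∧
      (d = 15 ∨ (d = 165 ∧ a = 1 ∧ b = 3) ∨ (d = 165 ∧ a = 11) ∨ (d = 1155 ∧ b = 5)) := by
  classical
  have : Fact (Nat.Prime 2) := ⟨Nat.prime_two⟩
  have h4 := Y.sylow_two hn ht R
  obtain ⟨d, hd⟩ : 4 ∣ Nat.card Y.L := h4 ▸ card_subgroup_dvd_card (R : Subgroup Y.L)
  have hnot8 : ∀ K : Subgroup Y.L, ¬ 8 ∣ Nat.card K := by
    intro K h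
    have : 2 ^ 3 ∣ Nat.card (R : Subgroup Y.L) := R.pow_dvd_card_of_pow_dvd_card
      ((show (2 : ℕ) ^ 3 = 8 by norm_num) ▸ h.trans (card_subgroup_dvd_card K))
    rw [h4] at this
    norm_num at this
  have hdodd : ¬ 2 ∣ d := fun h => hnot8 ⊤ (by rw [card_top, hd]; exact Nat.mul_dvd_mul_left 4 h)
  have hd21 : d ∣ 21945 := (Nat.Coprime.pow_right 3
    (Nat.coprime_two_right.2 (Nat.odd_iff.2 (by omega)))).dvd_of_dvd_mul_left
      (show d ∣ 2 ^ 3 * 21945 by norm_num; exact (dvd_mul_left d 4).trans (hd ▸ Y.card_dvd hn))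
  have hdiv : ∀ k, k ∣ d → k ∈ Nat.divisors 21945 := fun k hk =>
    Nat.mem_divisors.2 ⟨hk.trans hd21, by norm_num⟩
  have hRC : (R : Subgroup Y.L) ≤ centralizer ((R : Subgroup Y.L) : Set Y.L) := fun x hx =>
    mem_centralizer_iff.2 fun y hy => (two_group_sub hn Y R.2).2 y hy x hx
  have hCC : centralizer ((R : Subgroup Y.L) : Set Y.L) ≤ centralizer ({v} : Set Y.L) :=
    centralizer_le (Set.singleton_subset_iff.2 hvR)
  obtain ⟨a, ha⟩ : 4 ∣ Nat.card (centralizer ((R : Subgroup Y.L) : Set Y.L)) :=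
    h4 ▸ card_dvd_of_le hRC
  obtain ⟨b, hb⟩ : 4 ∣ Nat.card (centralizer ({v} : Set Y.L)) :=
    h4 ▸ card_dvd_of_le (hRC.trans hCC)
  have hab : a ∣ b := Nat.dvd_of_mul_dvd_mul_left (by norm_num : 0 < 4)
    (ha ▸ hb ▸ card_dvd_of_le hCC)
  have hbd : b ∣ d := Nat.dvd_of_mul_dvd_mul_left (by norm_num : 0 < 4)
    (hb ▸ hd ▸ card_subgroup_dvd_card _)
  have ha11 : a ∈ ([1, 11] : List ℕ) := by
    have hsq : Squarefree 21945 := by
      rw [Nat.squarefree_iff_nodup_primeFactorsList (by norm_num)]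
      simp
    have h11 : a ∣ 11 := by
      rw [← Nat.prod_primeFactors_of_squarefree (hsq.squarefree_of_dvd ((hab.trans hbd).trans hd21))]
      refine Finset.prod_primes_dvd _ (fun p hp => (Nat.prime_of_mem_primeFactors hp).prime) ?_
      intro p hp
      have hpp := Nat.prime_of_mem_primeFactors hp
      haveI := Fact.mk hpp
      have hpa := Nat.dvd_of_mem_primeFactors hp
      have hp2 : p ≠ 2 := fun h => hdodd (h ▸ (hpa.trans hab).trans hbd)
      obtain ⟨u, hu⟩ := exists_prime_orderOf_dvd_card' (G := centralizer ((R : Subgroup Y.L) : Set Y.L)) p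
        (ha ▸ dvd_mul_of_dvd_right hpa 4)
      have huG : orderOf ((u : Y.L) : G) = p := by rw [Subgroup.orderOf_coe, Subgroup.orderOf_coe, hu]
      -- the two-group generated by the Sylow subgroup and the central involution
      set R' := (R : Subgroup Y.L).map Y.L.subtype with hR'
      set H := R' ⊔ zpowers t with hH
      have hT : IsPGroup 2 (zpowers t) := IsPGroup.of_card (n := 1) (by rw [Nat.card_zpowers, ht, pow_one])
      have hle : zpowers t ≤ normalizer (R' : Set G) := by
        refine zpowers_le.2 (mem_normalizer_iff.2 fun x => ?_)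
        have hx : ∀ y ∈ R', t * y * t⁻¹ = y := fun y hy => by
          obtain ⟨l, -, rfl⟩ := hy
          rw [Subgroup.coe_subtype, ← Y.comm l.2, mul_inv_cancel_right]
        constructor
        · intro h1; rw [hx x h1]; exact h1
        · intro h1
          have h3 : t * x * t⁻¹ = x := mul_left_cancel (mul_right_cancel (hx _ h1))
          exact h3 ▸ h1
      obtain ⟨hH8, -⟩ := two_group hn ((R.2.map Y.L.subtype).to_sup_of_normal_left' hT hle)
      have hR'4 : Nat.card R' = 4 := (card_map_of_injective Y.L.subtype_injective).trans h4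
      have hHne : Nat.card H ≠ 4 := fun h => by
        have : R' = H := eq_of_le_of_card_ge le_sup_left (by rw [h, hR'4])
        exact Y.t_not_mem hn ht (map_subtype_le _ (this.ge (mem_sup_right (mem_zpowers t))))
      have hH4 : 4 ∣ Nat.card H := hR'4 ▸ card_dvd_of_le le_sup_left
      have hH8' : Nat.card H = 8 := by
        have := Nat.le_of_dvd (by norm_num) hH8
        interval_cases hq : Nat.card H <;> omega
      by_contra hne
      refine centralised_by_eight hn hpp hp2 ?_ (huG ▸ orderOf_dvd_natCard ((u : Y.L) : G)) huG ?_ hH8'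
      · intro h
        exact hne (h ▸ dvd_rfl)
      · have hcl : H ≤ centralizer ({((u : Y.L) : G)} : Set G) := by
          refine sup_le ?_ (zpowers_le.2 (mem_centralizer_singleton_iff.2 (Y.comm (u : Y.L).2).symm))
          rintro _ ⟨r, hr, rfl⟩
          exact mem_centralizer_singleton_iff.2 (congrArg Subtype.val (mem_centralizer_iff.1 u.2 r hr))
        exact fun h hh => (mem_centralizer_singleton_iff.1 (hcl hh)).symm
    rcases (Nat.dvd_prime (by norm_num : Nat.Prime 11)).1 h11 with h | h <;> simp [h]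
  -- the principal block
  obtain ⟨M, hM⟩ := BlockBasic.exists_isPModular Nat.prime_two
  obtain ⟨χ₂, χ₃, χ₄, ε, hε, h2, h3, h23, h24, h34, hB, hz, m2, m3, m4, hrel⟩ :=
    S0948.result M hM R (Y.isKleinFour hn ht R) (fun s s' hs hs' => Y.isConj hn ht hs hs')
  have h4' : (χ₄ : Y.L → ℂ) ≠ fun _ => 1 := fun h => by
    have h1 := (hz v hv).2.2
    rw [h] at h1
    norm_num at h1
  have hnc : ¬ ∃ N : Subgroup Y.L, N.Normal ∧ Nat.card N = d := by
    rintro ⟨N, hN, hNc⟩
    exact Y.no_complement hn ht R ⟨N, hN, isComplement'_of_coprime (by rw [hNc, h4, hd, mul_comm])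
      (by rw [hNc, h4, show (4 : ℕ) = 2 ^ 2 by norm_num]
          exact Nat.Coprime.pow_right 2 (Nat.coprime_two_right.2 (Nat.odd_iff.2 (by omega))))⟩
  have hform := S4479.result M hM d (Nat.odd_iff.2 (by omega)) hd hnc R v hvR hv χ₂ χ₃ χ₄ 1 ε (-1) hB
    ⟨h2, h3, h4', h23, h24, h34⟩ ⟨Or.inl rfl, hε, Or.inr rfl⟩
    ⟨by rw [(hz v hv).1]; norm_num, (hz v hv).2.1, by rw [(hz v hv).2.2]; norm_num⟩
  set x := charDegree (χ₂ : Y.L → ℂ) with hx
  set y := charDegree (χ₃ : Y.L → ℂ) with hy
  set z := charDegree (χ₄ : Y.L → ℂ) with hz'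
  have hne1 : ∀ χ : IrrCharacter Y.L, (χ : Y.L → ℂ) ≠ (fun _ => 1) → charDegree (χ : Y.L → ℂ) ≠ 1 :=
    fun χ hχ h => hχ (funext fun g => by
      rw [H30.ThreeDegrees.linear_apply_commutator h (Y.perf ▸ mem_top g), H30.ThreeDegrees.apply_one, h,
        Nat.cast_one])
  have hdeg : ∀ χ : IrrCharacter Y.L, ¬ 2 ∣ charDegree (χ : Y.L → ℂ) → charDegree (χ : Y.L → ℂ) ∣ d := by
    intro χ h
    refine (Nat.Coprime.pow_right 2 (Nat.coprime_two_right.2 (Nat.odd_iff.2 (by omega)))).dvd_of_dvd_mul_left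
      (show charDegree (χ : Y.L → ℂ) ∣ 2 ^ 2 * d from ?_)
    rw [show (2 : ℕ) ^ 2 * d = Nat.card Y.L by rw [hd]; norm_num]
    exact H30.ThreeDegrees.charDegree_dvd_card χ
  have hzrel : (z : ℤ) = 1 + x + ε * y := by
    have h := hrel 1 (by rw [orderOf_one]; exact odd_one)
    rw [H30.ThreeDegrees.apply_one, H30.ThreeDegrees.apply_one, H30.ThreeDegrees.apply_one,
      ← hx, ← hy, ← hz', sub_eq_zero] at h
    have h' : ((z : ℤ) : ℂ) = ((1 + x + ε * y : ℤ) : ℂ) := by push_cast; exact h.symm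
    exact_mod_cast h'
  rw [hb, ha, hd] at hform
  have hxpos : 0 < x := BlockBasic.charDegree_pos χ₂
  have hypos : 0 < y := BlockBasic.charDegree_pos χ₃
  have hx4 : x % 4 = 1 := by omega
  have hy1 := hne1 χ₃ h3
  have hx1 := hne1 χ₂ h2
  rw [← hy] at hy1
  rw [← hx] at hx1
  have hz1 := hne1 χ₄ h4'
  rw [← hz'] at hz1
  have hxd := hdeg χ₂ (by rw [← hx]; omega)
  have hzd := hdeg χ₄ (by rw [← hz']; omega)
  have hz4 : z % 4 = 3 := by omega
  have ha0 : (a : ℚ) ≠ 0 := by
    simp only [List.mem_cons, List.not_mem_nil, or_false] at ha11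
    rcases ha11 with rfl | rfl <;> norm_num
  have hq : ((d : ℚ) * a * a * ((x : ℚ) + 1) * ((y : ℚ) + ε) * ((z : ℚ) - 1)) =
      8 * x * y * z * (b : ℚ) ^ 3 := by
    have e1 : (x : ℚ) + 1 ≠ 0 := by positivity
    have e2 : (y : ℚ) + ε ≠ 0 := by
      have : 1 < (y : ℚ) := by exact_mod_cast (show 1 < y by omega)
      rcases hε with rfl | rfl <;> push_cast <;> intro h0 <;> linarith
    have e3 : (z : ℚ) + -1 ≠ 0 := by
      have : 1 < (z : ℚ) := by exact_mod_cast (show 1 < z by omega)
      intro h0; linarith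
    push_cast at hform
    field_simp at hform
    linear_combination hform
  have heq : (d : ℤ) * a * a * ((x : ℤ) + 1) * ((y : ℤ) + ε) * ((z : ℤ) - 1) =
      8 * x * y * z * (b : ℤ) ^ 3 := by exact_mod_cast hq
  refine ⟨d, a, b, hd, ha, hb, ?_⟩
  rcases hε with rfl | rfl
  · have hy4 : y % 4 = 1 := by omega
    have hyd := hdeg χ₃ (by rw [← hy]; omega)
    have hzv : z = 1 + x + y := by omega
    refine (klein_arith d (hdiv d dvd_rfl) x (hdiv x hxd) hxd hx4 hx1 y (hdiv y hyd) hyd).1 hy4 hy1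
      (hzv ▸ hzd) b (hdiv b hbd) hbd a ha11 hab ?_
    rw [show (z : ℤ) = 1 + x + y by linear_combination hzrel] at heq
    zify
    linear_combination heq
  · have hy4 : y % 4 = 3 := by omega
    have hyd := hdeg χ₃ (by rw [← hy]; omega)
    have hylt : y < 1 + x := by omega
    have hzv : z = 1 + x - y := by omega
    have hyx : y ≤ x := by omega
    refine (klein_arith d (hdiv d dvd_rfl) x (hdiv x hxd) hxd hx4 hx1 y (hdiv y hyd) hyd).2 hy4 hylt
      (hzv ▸ hz4) (hzv ▸ hzd) b (hdiv b hbd) hbd a ha11 hab ?_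
    have hzc : (z : ℤ) = 1 + x - y := by linear_combination hzrel
    rw [hzc] at heq
    zify [show 1 ≤ y by omega, hylt.le, hyx]
    linear_combination heq

end Layer

end Cfsg.Agent.Coprime.J1.ByOrder
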