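import Cfsg.Agent.Coprime.J1.ByOrder.Layer

/-!
# A simple group of order 175560 has an involution centraliser `2 × A₅`
-/

set_option autoImplicit false
set_option linter.unusedSectionVars false
set_option linter.style.haveILetI false

namespace Cfsg.Agent.Coprime.J1.ByOrder

open Subgroup
open Cfsg.Agent.S4274 (Dat opts)

section Divisors

theorem sylow_eleven_arith :
    ∀ n ∈ Nat.divisors 60, n % 11 = 1 → n ≠ 1 → n = 12 := by decide +kernel

theorem sylow_five_arith : ∀ n ∈ Nat.divisors 12, n % 5 = 1 → n ≠ 1 → n = 6 := by decide +kernel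

theorem two_cases : ∀ a : Multiplicative (ZMod 2), a = 1 ∨ a = Multiplicative.ofAdd 1 := by decide

theorem ofAdd_one_ne : Multiplicative.ofAdd (1 : ZMod 2) ≠ 1 := by decide

theorem ofAdd_one_sq : Multiplicative.ofAdd (1 : ZMod 2) * Multiplicative.ofAdd 1 = 1 := by decide

theorem factorization_sixty : (60 : ℕ).factorization 5 = 1 := by
  rw [show (60 : ℕ) = 5 * 12 by norm_num, Nat.factorization_mul (by norm_num) (by norm_num),
    Finsupp.add_apply, Nat.Prime.factorization_self (by norm_num),
    Nat.factorization_eq_zero_of_not_dvd (by norm_num)]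

end Divisors

variable {G : Type*} [Group G] [Finite G] [IsSimpleGroup G]

/-- In a perfect group a Sylow subgroup of prime order is not normal. -/
theorem card_sylow_ne_one {L : Type*} [Group L] [Finite L] (hperf : commutator L = ⊤) {p : ℕ}
    [hp : Fact p.Prime] (P : Sylow p L) (hP : Nat.card (P : Subgroup L) = p) :
    Nat.card (Sylow p L) ≠ 1 := by
  intro h1
  apply exists_not_commute hperf P hP
  have htop : normalizer ((P : Subgroup L) : Set L) = ⊤ :=
    index_eq_one.1 (P.card_eq_index_normalizer.symm.trans h1)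
  haveI : (P : Subgroup L).Normal := normalizer_eq_top_iff.1 htop
  haveI : IsCyclic (P : Subgroup L) := isCyclic_of_prime_card hP
  -- the action on a cyclic normal subgroup is abelian
  intro g _
  let f : L →* MulAut (P : Subgroup L) := MulAut.conjNormal
  have hle : commutator L ≤ f.ker := by
    letI : CommGroup (MulAut (P : Subgroup L)) :=
      { (inferInstance : Group (MulAut (P : Subgroup L))) with
        mul_comm := fun a b => by
          obtain ⟨i, hi⟩ := MonoidHom.map_cyclic a.toMonoidHom
          obtain ⟨j, hj⟩ := MonoidHom.map_cyclic b.toMonoidHom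
          ext x
          have h1 : ∀ y, a y = y ^ i := hi
          have h2 : ∀ y, b y = y ^ j := hj
          show ((a (b x) : (P : Subgroup L)) : L) = ((b (a x) : (P : Subgroup L)) : L)
          rw [h1, h2, h1, h2, ← zpow_mul, ← zpow_mul, mul_comm] }
    exact Abelianization.commutator_subset_ker f
  have hg : f g = 1 := MonoidHom.mem_ker.1 (hle (hperf.symm ▸ mem_top g))
  refine mem_centralizer_iff.2 fun x hx => ?_
  have h := congrArg (fun e : MulAut (P : Subgroup L) => ((e ⟨x, hx⟩ : (P : Subgroup L)) : L)) hg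
  exact (mul_inv_eq_iff_eq_mul.1 h).symm

namespace Layer

variable {t : G}

theorem four_with_t (hn : Nat.card G = 175560) (ht : orderOf t = 2) (Y : Layer t) {v : G} (hv : v ∈ Y.L)
    (hvo : orderOf v = 2) :
    Nat.card (zpowers t ⊔ zpowers v : Subgroup G) = 4 ∧
      ∀ u : G, u * t = t * u → u * v = v * u → ∀ h ∈ zpowers t ⊔ zpowers v, u * h = h * u := by
  have : Fact (Nat.Prime 2) := ⟨Nat.prime_two⟩
  have hvt := Y.comm hv
  refine ⟨?_, fun u h1 h2 => ?_⟩
  · have hle : zpowers v ≤ normalizer (zpowers t : Set G) := by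
      refine zpowers_le.2 (mem_normalizer_iff.2 fun x => ?_)
      constructor
      · rintro ⟨i, rfl⟩
        rw [(Commute.zpow_right hvt i).eq, mul_inv_cancel_right]
        exact ⟨i, rfl⟩
      · rintro ⟨i, hi⟩
        refine ⟨i, ?_⟩
        have h : v * t ^ i * v⁻¹ = v * x * v⁻¹ := by
          rw [(Commute.zpow_right hvt i).eq, mul_inv_cancel_right]; exact hi
        exact mul_left_cancel (mul_right_cancel h)
    have hp : IsPGroup 2 (zpowers t ⊔ zpowers v : Subgroup G) :=
      (IsPGroup.of_card (n := 1) (by rw [Nat.card_zpowers, ht, pow_one])).to_sup_of_normal_left'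
        (IsPGroup.of_card (n := 1) (by rw [Nat.card_zpowers, hvo, pow_one])) hle
    obtain ⟨h8, hsq, hcomm⟩ := two_group hn hp
    have htm : t ∈ zpowers t ⊔ zpowers v := mem_sup_left (mem_zpowers t)
    have hvm : v ∈ zpowers t ⊔ zpowers v := mem_sup_right (mem_zpowers v)
    -- every element is one of four
    have hall : ∀ h ∈ zpowers t ⊔ zpowers v, h = 1 ∨ h = t ∨ h = v ∨ h = t * v := by
      intro h hh
      rw [← closure_eq (zpowers t), ← closure_eq (zpowers v), ← Subgroup.closure_union] at hh
      have ht2 : t * t = 1 := by rw [← sq, ← ht, pow_orderOf_eq_one]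
      have hv2 : v * v = 1 := by rw [← sq, ← hvo, pow_orderOf_eq_one]
      have hgen : ∀ y ∈ (zpowers t : Set G) ∪ (zpowers v : Set G), y = 1 ∨ y = t ∨ y = v := by
        rintro y (⟨i, rfl⟩ | ⟨i, rfl⟩) <;> rcases Int.even_or_odd i with ⟨j, rfl⟩ | ⟨j, rfl⟩
        · left; show t ^ (j + j) = 1
          rw [← two_mul, zpow_mul, zpow_two, ht2, one_zpow]
        · right; left; show t ^ (2 * j + 1) = t
          rw [zpow_add_one, zpow_mul, zpow_two, ht2, one_zpow, one_mul]
        · left; show v ^ (j + j) = 1
          rw [← two_mul, zpow_mul, zpow_two, hv2, one_zpow]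
        · right; right; show v ^ (2 * j + 1) = v
          rw [zpow_add_one, zpow_mul, zpow_two, hv2, one_zpow, one_mul]
      have ha : t * (t * v) = v := by rw [← mul_assoc, ht2, one_mul]
      have hb : v * (t * v) = t := by rw [← mul_assoc, hvt, mul_assoc, hv2, mul_one]
      induction hh using closure_induction_left with
      | one => exact Or.inl rfl
      | mul_left x hx y hy ih =>
        rcases hgen x hx with rfl | rfl | rfl <;> rcases ih with rfl | rfl | rfl | rfl <;>
          simp [ht2, hv2, ha, hb, hvt]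
      | inv_mul_cancel x hx y hy ih =>
        have hti : t⁻¹ = t := inv_eq_of_mul_eq_one_left ht2
        have hvi : v⁻¹ = v := inv_eq_of_mul_eq_one_left hv2
        rcases hgen x hx with rfl | rfl | rfl <;> rcases ih with rfl | rfl | rfl | rfl <;>
          simp [hti, hvi, ht2, hv2, ha, hb, hvt]
    classical
    have := Fintype.ofFinite (zpowers t ⊔ zpowers v : Subgroup G)
    have hfin : ((zpowers t ⊔ zpowers v : Subgroup G) : Set G) = ({1, t, v, t * v} : Finset G) := by
      ext h
      simp only [SetLike.mem_coe, Finset.coe_insert, Finset.coe_singleton, Set.mem_insert_iff,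
        Set.mem_singleton_iff]
      refine ⟨hall h, ?_⟩
      rintro (rfl | rfl | rfl | rfl)
      exacts [one_mem _, htm, hvm, mul_mem htm hvm]
    have ht1 : t ≠ 1 := fun h => by rw [h, orderOf_one] at ht; omega
    have hv1 : v ≠ 1 := fun h => by rw [h, orderOf_one] at hvo; omega
    have htv : t ≠ v := fun h => Y.t_not_mem hn ht (h ▸ hv)
    rw [show Nat.card (zpowers t ⊔ zpowers v : Subgroup G) =
      Nat.card (↑({1, t, v, t * v} : Finset G) : Set G) from Nat.card_congr (Equiv.setCongr hfin),
      Nat.card_coe_set_eq, Set.ncard_coe_finset]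
    have n1 : (1 : G) ∉ ({t, v, t * v} : Finset G) := by
      simp only [Finset.mem_insert, Finset.mem_singleton, not_or]
      exact ⟨ht1.symm, hv1.symm, fun h => htv (by
        rw [eq_inv_of_mul_eq_one_left h.symm]
        exact inv_eq_of_mul_eq_one_left (by rw [← sq, ← hvo, pow_orderOf_eq_one]))⟩
    have n2 : t ∉ ({v, t * v} : Finset G) := by
      simp only [Finset.mem_insert, Finset.mem_singleton, not_or]
      exact ⟨htv, fun h => hv1 (mul_eq_left.1 h.symm)⟩
    have n3 : v ∉ ({t * v} : Finset G) := by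
      simp only [Finset.mem_singleton]
      exact fun h => ht1 (mul_eq_right.1 h.symm)
    rw [Finset.card_insert_of_notMem n1, Finset.card_insert_of_notMem n2,
      Finset.card_insert_of_notMem n3, Finset.card_singleton]
  · intro h hh
    have hle : zpowers t ⊔ zpowers v ≤ centralizer ({u} : Set G) :=
      sup_le (zpowers_le.2 (mem_centralizer_singleton_iff.2 h1.symm))
        (zpowers_le.2 (mem_centralizer_singleton_iff.2 h2.symm))
    exact (mem_centralizer_singleton_iff.1 (hle hh)).symm

theorem exists_involution (hn : Nat.card G = 175560) (ht : orderOf t = 2) (Y : Layer t) (R : Sylow 2 Y.L) :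
    ∃ v ∈ (R : Subgroup Y.L), orderOf v = 2 := by
  obtain ⟨v, hv⟩ := exists_prime_orderOf_dvd_card' (G := (R : Subgroup Y.L)) 2 (hp := ⟨Nat.prime_two⟩)
    (by rw [Y.sylow_two hn ht R]; norm_num)
  exact ⟨v, v.2, by rw [Subgroup.orderOf_coe, hv]⟩

/-- An involution of the centraliser lies in the perfect subgroup or in its translate by `t`. -/
theorem involution_mem (hn : Nat.card G = 175560) (ht : orderOf t = 2) (Y : Layer t) {s : G}
    (hsC : s ∈ centralizer ({t} : Set G)) (hs2 : s * s = 1) : s ∈ Y.L ∨ s * t ∈ Y.L := by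
  have : Fact (Nat.Prime 2) := ⟨Nat.prime_two⟩
  set C := centralizer ({t} : Set G) with hC
  obtain ⟨R⟩ := Sylow.nonempty (p := 2) (G := Y.L)
  set R' := (R : Subgroup Y.L).map Y.L.subtype with hR'
  have hR'L : R' ≤ Y.L := map_subtype_le _
  have ht2 : t * t = 1 := by rw [← sq, ← ht, pow_orderOf_eq_one]
  -- the subgroup `R' ∪ R' t`
  let U : Subgroup G :=
    { carrier := {x | x ∈ R' ∨ x * t ∈ R'}
      one_mem' := Or.inl (one_mem _)
      mul_mem' := fun {x y} hx hy => by
        have key : ∀ r ∈ R', r * t = t * r := fun r hr => Y.comm (hR'L hr)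
        rcases hx with hx | hx <;> rcases hy with hy | hy
        · exact Or.inl (mul_mem hx hy)
        · exact Or.inr (by rw [mul_assoc]; exact mul_mem hx hy)
        · refine Or.inr ?_
          rw [mul_assoc, key y hy, ← mul_assoc]
          exact mul_mem hx hy
        · refine Or.inl ?_
          have hxy : x * y = x * t * (y * t) := by
            calc x * y = x * (y * t * t) := by rw [mul_assoc y t t, ht2, mul_one]
              _ = x * (t * (y * t)) := by rw [key _ hy]
              _ = x * t * (y * t) := by rw [mul_assoc]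
          rw [hxy]
          exact mul_mem hx hy
      inv_mem' := fun {x} hx => by
        rcases hx with hx | hx
        · exact Or.inl (inv_mem hx)
        · refine Or.inr ?_
          have h := Y.comm (hR'L hx)
          have hxi : x⁻¹ * t = (x * t)⁻¹ := by
            rw [mul_inv_rev, inv_eq_of_mul_eq_one_left ht2]
            have hxt : x * t = t * x := by
              have h' := h
              rw [mul_assoc, ht2, mul_one, ← mul_assoc] at h'
              calc x * t = t * x * t * t := by rw [← h']
                _ = t * x := by rw [mul_assoc (t * x), ht2, mul_one]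
            exact (Commute.inv_left hxt).eq
          rw [hxi]
          exact inv_mem hx }
  have hR'4 : Nat.card R' = 4 := (card_map_of_injective Y.L.subtype_injective).trans (Y.sylow_two hn ht R)
  obtain ⟨-, hsqR, -⟩ := two_group hn (R.2.map Y.L.subtype)
  have hU : IsPGroup 2 U := by
    rintro ⟨x, hx⟩
    refine ⟨1, Subtype.ext ?_⟩
    show x ^ 2 ^ 1 = 1
    rw [pow_one, sq]
    rcases hx with hx | hx
    · exact hsqR x hx
    · have hc := Y.comm (hR'L hx)
      have h1 := hsqR _ hx
      calc x * x = x * (x * t * t) := by rw [mul_assoc x t t, ht2, mul_one]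
        _ = x * (t * (x * t)) := by rw [hc]
        _ = x * t * (x * t) := by rw [mul_assoc]
        _ = 1 := h1
  have hUR : R' ≤ U := fun x hx => Or.inl hx
  have htU : t ∈ U := Or.inr (by rw [ht2]; exact one_mem _)
  obtain ⟨P, hP⟩ := hU.exists_le_sylow
  have hUP : U = (P : Subgroup G) := by
    refine eq_of_le_of_card_ge hP ?_
    rw [card_sylow_two hn P]
    obtain ⟨h8, -⟩ := two_group hn hU
    have h4 : 4 ∣ Nat.card U := hR'4 ▸ card_dvd_of_le hUR
    have hne : Nat.card U ≠ 4 := fun h => by
      have : R' = U := eq_of_le_of_card_ge hUR (by rw [h, hR'4])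
      exact Y.t_not_mem hn ht (hR'L (this.ge htU))
    have := Nat.le_of_dvd (by norm_num) h8
    have : 0 < Nat.card U := Nat.card_pos
    interval_cases hq : Nat.card U <;> omega
  have hz : IsPGroup 2 (zpowers s ⊔ zpowers t : Subgroup G) := by
    have h1 : IsPGroup 2 (zpowers s) := by
      rintro ⟨x, i, rfl⟩
      refine ⟨1, Subtype.ext ?_⟩
      show (s ^ i) ^ 2 ^ 1 = 1
      rw [pow_one, ← zpow_natCast, ← zpow_mul, mul_comm, zpow_mul, zpow_natCast, sq, hs2, one_zpow]
    refine h1.to_sup_of_normal_left' (IsPGroup.of_card (n := 1) (by rw [Nat.card_zpowers, ht, pow_one])) ?_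
    refine zpowers_le.2 (mem_normalizer_iff.2 fun x => ?_)
    have hst : Commute t s := (mem_centralizer_singleton_iff.1 hsC).symm
    constructor
    · rintro ⟨i, rfl⟩
      exact ⟨i, by rw [(hst.zpow_right i).eq, mul_inv_cancel_right]⟩
    · rintro ⟨i, hi⟩
      refine ⟨i, mul_left_cancel (a := t) (mul_right_cancel (b := t⁻¹) ?_)⟩
      show t * s ^ i * t⁻¹ = t * x * t⁻¹
      rw [(hst.zpow_right i).eq, mul_inv_cancel_right]
      exact hi
  obtain ⟨Q, hQ⟩ := hz.exists_le_sylow
  have htQ : t ∈ (Q : Subgroup G) := hQ (mem_sup_right (mem_zpowers t))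
  have hle : ∀ {T : Sylow 2 G}, t ∈ (T : Subgroup G) → (T : Subgroup G) ≤ C := fun hT x hx =>
    mem_centralizer_singleton_iff.2 (mul_comm_sylow hn _ hx hT)
  obtain ⟨c, hc⟩ := MulAction.exists_smul_eq C (P.subtype (hle (hUP ▸ htU))) (Q.subtype (hle htQ))
  have hsQ : (⟨s, hsC⟩ : C) ∈ ((Q.subtype (hle htQ)) : Subgroup C) := hQ (mem_sup_left (mem_zpowers s))
  rw [← hc, Sylow.coe_subgroup_smul] at hsQ
  obtain ⟨u, hu, hus⟩ := hsQ
  have hus' : (c : G) * (u : G) * (c : G)⁻¹ = s := congrArg Subtype.val hus
  have huU : (u : G) ∈ U := hUP.ge hu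
  rcases huU with h | h
  · left
    rw [← hus']
    exact (mem_normalizer_iff.1 (Y.norm c.2) _).1 (hR'L h)
  · right
    have hct : (c : G)⁻¹ * t = t * (c : G)⁻¹ :=
      (Commute.inv_left (mem_centralizer_singleton_iff.1 c.2)).eq
    rw [← hus', mul_assoc _ (c : G)⁻¹ t, hct, ← mul_assoc, mul_assoc (c : G)]
    exact (mem_normalizer_iff.1 (Y.norm c.2) _).1 (hR'L h)

/-- The perfect subgroup has order 60. -/
theorem card_eq (hn : Nat.card G = 175560) (ht : orderOf t = 2) (Y : Layer t) : Nat.card Y.L = 60 := by
  have : Fact (Nat.Prime 2) := ⟨Nat.prime_two⟩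
  obtain ⟨R⟩ := Sylow.nonempty (p := 2) (G := Y.L)
  obtain ⟨v, hvR, hv⟩ := Y.exists_involution hn ht R
  obtain ⟨d, a, b, hd, ha, hb, hcases⟩ := Y.order_cases hn ht R hvR hv
  have hvG : orderOf (v : G) = 2 := by rw [Subgroup.orderOf_coe, hv]
  obtain ⟨h4, hcen⟩ := Y.four_with_t hn ht v.2 hvG
  rcases hcases with h | ⟨h, rfl, rfl⟩ | ⟨h, rfl⟩ | ⟨h, rfl⟩
  · rw [hd, h]
  · -- order 660
    exfalso
    rw [h] at hd
    obtain ⟨D⟩ := exists_profile hn
    obtain ⟨oa, ob, -, od, oe⟩ := opts_eight
    haveI : Fact (Nat.Prime 19) := ⟨by norm_num⟩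
    haveI : Fact (Nat.Prime 11) := ⟨by norm_num⟩
    haveI : Fact (Nat.Prime 5) := ⟨by norm_num⟩
    haveI : Fact (Nat.Prime 3) := ⟨by norm_num⟩
    obtain ⟨y, hy⟩ := exists_prime_orderOf_dvd_card' (G := centralizer ({v} : Set Y.L)) 3
      (by rw [hb]; norm_num)
    have he4 : 4 ∣ D.e.2 := h4 ▸ dvd_cofactor (by rw [hn]; norm_num) D.de
      (u := ((y : Y.L) : G)) (by rw [Subgroup.orderOf_coe, Subgroup.orderOf_coe, hy])
      (hcen _ (Y.comm (y : Y.L).2) (congrArg Subtype.val (mem_centralizer_singleton_iff.1 y.2)))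
      (by rw [h4]; norm_num)
    obtain ⟨w, hw⟩ := exists_prime_orderOf_dvd_card' (G := Y.L) 5 (by rw [hd]; norm_num)
    have hd2 : 2 ∣ D.d.2 := by
      have hc : Nat.card (zpowers t) = 2 := by rw [Nat.card_zpowers, ht]
      exact hc ▸ dvd_cofactor (by rw [hn]; norm_num) D.dd (u := (w : G))
        (by rw [Subgroup.orderOf_coe, hw])
        (fun h hh => by
          obtain ⟨i, rfl⟩ := hh
          exact (Commute.zpow_right (Y.comm w.2) i).eq) (by rw [hc]; norm_num)
    rcases (od _ D.hd).2.2 hd2 with h3 | h19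
    · have he5 : 5 ∣ D.e.2 := (dat_comm_iff (by norm_num) D.dd D.de).1 h3
      have he11 := (oe _ D.he).2 he5 he4
      have hb4 : 4 ∣ D.b.2 := (ob _ D.hb).2.2 ((dat_comm_iff (by norm_num) D.de D.db).1 he11)
      obtain ⟨u, hu⟩ := exists_prime_orderOf_dvd_card' (G := Y.L) 11 (by rw [hd]; norm_num)
      have hu' : orderOf (u : G) = 11 := by rw [Subgroup.orderOf_coe, hu]
      -- a second involution centralising `u`
      obtain ⟨P, hP⟩ := Agent.H36.exists_sylow_mem hu'
      set K := centralizer ({(u : G)} : Set G) with hK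
      obtain ⟨-, hPdat⟩ : Nat.card (Sylow 11 G) = D.b.1 ∧ _ := by
        rcases D.db with h | ⟨h, -⟩
        · exact h
        · exact absurd (hn ▸ (by norm_num : 11 ∣ 175560)) h
      obtain ⟨hPc, hPC⟩ := hPdat P
      have hPK : centralizer ((P : Subgroup G) : Set G) ≤ K :=
        centralizer_le (Set.singleton_subset_iff.2 hP)
      have h4K : 2 ^ 2 ∣ Nat.card K :=
        ((show (2 : ℕ) ^ 2 = 4 by norm_num) ▸ hb4.trans (dvd_mul_left _ 11)).trans
          (hPC ▸ card_dvd_of_le hPK)
      have htK : t ∈ K := mem_centralizer_singleton_iff.2 (Y.comm u.2).symm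
      have hT : IsPGroup 2 (zpowers (⟨t, htK⟩ : K)) :=
        IsPGroup.of_card (n := 1) (by rw [Nat.card_zpowers, Subgroup.orderOf_mk, ht, pow_one])
      obtain ⟨Q, hQ⟩ := hT.exists_le_sylow
      have hQ4 : 2 ^ 2 ∣ Nat.card (Q : Subgroup K) := Q.pow_dvd_card_of_pow_dvd_card h4K
      obtain ⟨s, hs, hs1, hst⟩ : ∃ s ∈ (Q : Subgroup K), s ≠ 1 ∧ s ≠ ⟨t, htK⟩ := by
        by_contra! hcon
        have hle : (Q : Subgroup K) ≤ zpowers (⟨t, htK⟩ : K) := fun s hs => by
          by_cases hs1 : s = 1
          · rw [hs1]; exact one_mem _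
          · rw [hcon s hs hs1]; exact mem_zpowers _
        have := Nat.le_of_dvd Nat.card_pos (hQ4.trans (card_dvd_of_le hle))
        rw [Nat.card_zpowers, Subgroup.orderOf_mk, ht] at this
        omega
      obtain ⟨-, hsq, hcomm⟩ := two_group hn (Q.2.map K.subtype)
      have hs2 : (s : G) * s = 1 := hsq _ ⟨s, hs, rfl⟩
      have hsC : (s : G) ∈ centralizer ({t} : Set G) := mem_centralizer_singleton_iff.2
        (hcomm _ ⟨s, hs, rfl⟩ t ⟨_, hQ (mem_zpowers _), rfl⟩)
      -- so an involution of the perfect subgroup centralises `u`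
      obtain ⟨l, hl, hlu⟩ : ∃ l : Y.L, orderOf l = 2 ∧ u * l = l * u := by
        have hsu : (s : G) * u = u * s := mem_centralizer_singleton_iff.1 s.2
        set R' := (R : Subgroup Y.L).map Y.L.subtype with hR'
        -- a conjugate of `s` lies in the product of the central involution and the Sylow subgroup
        by_cases hsL : (s : G) ∈ Y.L
        · exact ⟨⟨s, hsL⟩, by
            rw [Subgroup.orderOf_mk]
            exact orderOf_eq_prime (by rw [sq, hs2]) (fun h => hs1 (Subtype.ext h)),
            Subtype.ext hsu.symm⟩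
        by_cases hstL : (s : G) * t ∈ Y.L
        · refine ⟨⟨_, hstL⟩, ?_, Subtype.ext ?_⟩
          · rw [Subgroup.orderOf_mk]
            have hst2 : (s : G) * t = t * s := mem_centralizer_singleton_iff.1 hsC
            refine orderOf_eq_prime ?_ (fun h => hst (Subtype.ext ?_))
            · rw [(show Commute (s : G) t from hst2).mul_pow, sq, hs2, one_mul, ← ht, pow_orderOf_eq_one]
            · show (s : G) = t
              rw [eq_inv_of_mul_eq_one_left h]
              exact inv_eq_of_mul_eq_one_left (by rw [← sq, ← ht, pow_orderOf_eq_one])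
          · show (u : G) * ((s : G) * t) = (s : G) * t * u
            rw [← mul_assoc, ← hsu, mul_assoc, Y.comm u.2, mul_assoc]
        exact ((Y.involution_mem hn ht hsC hs2).elim hsL hstL).elim
      obtain ⟨g, hg⟩ := isConj_iff.1 (Y.isConj hn ht hl hv)
      have hmem : g * u * g⁻¹ ∈ centralizer ({v} : Set Y.L) := mem_centralizer_singleton_iff.2 (by
        rw [← hg]
        calc g * u * g⁻¹ * (g * l * g⁻¹) = g * (u * l) * g⁻¹ := by group
          _ = g * l * g⁻¹ * (g * u * g⁻¹) := by rw [hlu]; group)
      have h11 := Subgroup.orderOf_dvd_natCard _ hmem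
      rw [show orderOf (g * u * g⁻¹) = orderOf u from
        ((MulAut.conj g).orderOf_eq u), hu, hb] at h11
      norm_num at h11
    · exact (oa _ D.ha).2 ((dat_comm_iff (by norm_num) D.dd D.da).1 h19)
  · -- a four group centralising an element of order eleven
    exfalso
    rw [h] at hd
    haveI : Fact (Nat.Prime 11) := ⟨by norm_num⟩
    obtain ⟨u, hu⟩ := exists_prime_orderOf_dvd_card' (G := centralizer ((R : Subgroup Y.L) : Set Y.L)) 11
      (by rw [ha]; norm_num)
    have hu' : orderOf (u : Y.L) = 11 := by rw [Subgroup.orderOf_coe, hu]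
    obtain ⟨P, hP⟩ := Agent.H36.exists_sylow_mem hu'
    obtain ⟨hnd, hnm⟩ := Agent.H36.card_sylow_dvd (G := Y.L) (p := 11) hd (a := 1) (m := 60) rfl (by norm_num)
    have hPc : Nat.card (P : Subgroup Y.L) = 11 := by
      simpa using Agent.H36.card_sylow_eq hd P (a := 1) (m := 60) rfl (by norm_num)
    have h12 : Nat.card (Sylow 11 Y.L) = 12 :=
      sylow_eleven_arith _ (Nat.mem_divisors.2 ⟨hnd, by norm_num⟩) hnm (card_sylow_ne_one Y.perf P hPc)
    have hN := Agent.H36.card_normalizer_of_card_sylow P hd h12 (N := 55) (by norm_num)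
    have hPz : zpowers (u : Y.L) = (P : Subgroup Y.L) := eq_of_le_of_card_ge (zpowers_le.2 hP)
      (by rw [Nat.card_zpowers, hu', hPc])
    have hle : (R : Subgroup Y.L) ≤ normalizer ((P : Subgroup Y.L) : Set Y.L) := fun r hr => by
      refine centralizer_le_normalizer _ (mem_centralizer_iff.2 fun x hx => ?_)
      obtain ⟨i, rfl⟩ := hPz.ge hx
      exact (Commute.zpow_left (mem_centralizer_iff.1 u.2 r hr).symm i).eq
    have := card_dvd_of_le hle
    rw [hN, Y.sylow_two hn ht R] at this
    norm_num at this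
  · -- an element of order five centralised by a four group
    exfalso
    haveI : Fact (Nat.Prime 5) := ⟨by norm_num⟩
    obtain ⟨u, hu⟩ := exists_prime_orderOf_dvd_card' (G := centralizer ({v} : Set Y.L)) 5
      (by rw [hb]; norm_num)
    exact centralised_by_four hn (q := 5) (by simp) (u := ((u : Y.L) : G))
      (by rw [Subgroup.orderOf_coe, Subgroup.orderOf_coe, hu])
      (hcen _ (Y.comm (u : Y.L).2) (congrArg Subtype.val (mem_centralizer_singleton_iff.1 u.2))) h4

end Layer

/-- The involution centraliser is `2 × A₅`. -/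
theorem exists_setup (hn : Nat.card G = 175560) : Nonempty (Setup G) := by
  classical
  have : Fact (Nat.Prime 2) := ⟨Nat.prime_two⟩
  haveI : Fact (Nat.Prime 5) := ⟨by norm_num⟩
  obtain ⟨t, ht⟩ := exists_prime_orderOf_dvd_card' (G := G) 2 (by rw [hn]; norm_num)
  obtain ⟨Y⟩ := exists_layer hn ht
  have h60 := Y.card_eq hn ht
  set C := centralizer ({t} : Set G) with hC
  obtain ⟨P⟩ := Sylow.nonempty (p := 5) (G := Y.L)
  have hPc : Nat.card (P : Subgroup Y.L) = 5 := by
    simpa using Agent.H36.card_sylow_eq h60 P (a := 1) (m := 12) rfl (by norm_num)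
  have hne := card_sylow_ne_one Y.perf P hPc
  obtain ⟨hsimple, h6⟩ := H70.simple_of_card_sixty h60 hne
  haveI := hsimple
  let f : Y.L →* Equiv.Perm (Sylow 5 Y.L) := MulAction.toPermHom Y.L (Sylow 5 Y.L)
  have hf : Function.Injective f := by
    rw [← MonoidHom.ker_eq_bot_iff]
    refine (f.normal_ker.eq_bot_or_eq_top).resolve_right fun h => ?_
    apply hne
    have : ∀ Q : Sylow 5 Y.L, Q = P := fun Q => by
      obtain ⟨g, rfl⟩ := MulAction.exists_smul_eq Y.L P Q
      exact DFunLike.congr_fun (MonoidHom.mem_ker.1 (h.ge (mem_top g))) P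
    exact Nat.card_eq_one_iff_unique.2 ⟨⟨fun x y => (this x).trans (this y).symm⟩, ⟨P⟩⟩
  obtain ⟨eL⟩ := H27.ProjLine.equiv_alternating_five f hf h6 h60
  -- the product with the central involution
  let φ : Multiplicative (ZMod 2) × Y.L → C := fun z =>
    ⟨(if z.1 = 1 then 1 else t) * (z.2 : G), mul_mem
      (by split <;> [exact one_mem _; exact mem_centralizer_singleton_iff.2 rfl]) (Y.le z.2.2)⟩
  have ht2 : t * t = 1 := by rw [← sq, ← ht, pow_orderOf_eq_one]
  have htwo := two_cases
  have hone := ofAdd_one_ne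
  have honeone := ofAdd_one_sq
  have hmul : ∀ z w, φ (z * w) = φ z * φ w := by
    rintro ⟨a, l⟩ ⟨b, m⟩
    apply Subtype.ext
    show (if a * b = 1 then 1 else t) * ((l * m : Y.L) : G) =
      (if a = 1 then 1 else t) * (l : G) * ((if b = 1 then 1 else t) * (m : G))
    have hlt : (l : G) * t = t * l := Y.comm l.2
    rcases htwo a with rfl | rfl <;> rcases htwo b with rfl | rfl <;>
      simp only [one_mul, mul_one, if_pos, if_neg hone, honeone, Subgroup.coe_mul]
    · rw [← mul_assoc (l : G), hlt, mul_assoc]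
    · rw [mul_assoc]
    · rw [mul_assoc t (l : G), ← mul_assoc (l : G), hlt, mul_assoc t (l : G), ← mul_assoc t t, ht2,
        one_mul]
  let Φ : Multiplicative (ZMod 2) × Y.L →* C := MonoidHom.mk' φ hmul
  have hinj : Function.Injective Φ := by
    rw [← MonoidHom.ker_eq_bot_iff, eq_bot_iff]
    rintro ⟨a, l⟩ h
    have h' : (if a = 1 then 1 else t) * (l : G) = 1 := congrArg Subtype.val (MonoidHom.mem_ker.1 h)
    rcases htwo a with rfl | rfl
    · rw [if_pos rfl, one_mul] at h'
      exact mem_bot.2 (Prod.ext rfl (Subtype.ext h'))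
    · rw [if_neg hone] at h'
      exact absurd (Eq.mpr (congrArg (fun q : G => q ∈ Y.L) (eq_inv_of_mul_eq_one_left h')) (inv_mem l.2))
        (Y.t_not_mem hn ht)
  have h120 : Nat.card (Multiplicative (ZMod 2) × Y.L) = 120 := by
    rw [Nat.card_prod, h60, Nat.card_congr (Multiplicative.toAdd), Nat.card_zmod]
  have hrange : Nat.card Φ.range = 120 := by
    rw [← Nat.card_congr (MonoidHom.ofInjective hinj).toEquiv, h120]
  obtain ⟨k, hk⟩ : 120 ∣ Nat.card C := hrange ▸ card_subgroup_dvd_card Φ.range
  have hk1 : k = 1 := by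
    by_contra hk1
    obtain ⟨p, hp, hpk⟩ := Nat.exists_prime_and_dvd hk1
    haveI := Fact.mk hp
    have hdvd : 120 * p ∣ 120 * 1463 := by
      have := (mul_dvd_mul_left 120 hpk).trans (hk ▸ card_subgroup_dvd_card C)
      rw [hn] at this
      exact this
    have hp1463 : p ∣ 1463 := Nat.dvd_of_mul_dvd_mul_left (by norm_num) hdvd
    have hp7 : 7 ≤ p := by
      have := hp.two_le
      by_contra hlt
      interval_cases p <;> first | (norm_num at hp; done) | norm_num at hp1463
    obtain ⟨w, hw⟩ := exists_prime_orderOf_dvd_card' (G := C) p (hk ▸ dvd_mul_of_dvd_right hpk 120)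
    have hw' : orderOf (w : G) = p := by rw [Subgroup.orderOf_coe, hw]
    -- `w` fixes the six Sylow five-subgroups of the perfect group
    let A := zpowers (w : G)
    have hA : ∀ a : A, (a : G) ∈ C := fun a => zpowers_le.2 w.2 a.2
    let cj : A → Y.L ≃* Y.L := fun a =>
      { toFun := fun l => ⟨(a : G) * l * (a : G)⁻¹, (mem_normalizer_iff.1 (Y.norm (hA a)) _).1 l.2⟩
        invFun := fun l => ⟨(a : G)⁻¹ * l * (a : G), by
          simpa using (mem_normalizer_iff.1 (Y.norm (inv_mem (hA a))) _).1 l.2⟩
        left_inv := fun l => Subtype.ext (show (a : G)⁻¹ * ((a : G) * l * (a : G)⁻¹) * a = l by group)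
        right_inv := fun l => Subtype.ext (show (a : G) * ((a : G)⁻¹ * l * a) * (a : G)⁻¹ = l by group)
        map_mul' := fun l m => Subtype.ext (show (a : G) * ((l : G) * m) * (a : G)⁻¹ =
          (a : G) * l * (a : G)⁻¹ * ((a : G) * m * (a : G)⁻¹) by group) }
    -- a generator of each Sylow five-subgroup is moved within it
    have hmove : ∀ z : Y.L, orderOf z = 5 → (w : G) * (z : G) = (z : G) * w := by
      intro z hz
      letI : MulAction A {H : Subgroup Y.L // Nat.card H = 5} :=
        { smul := fun a H => ⟨H.1.map (cj a).toMonoidHom,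
            (card_map_of_injective (cj a).injective).trans H.2⟩
          one_smul := fun H => Subtype.ext (by
            show H.1.map (cj 1).toMonoidHom = H.1
            rw [show (cj 1).toMonoidHom = MonoidHom.id _ from MonoidHom.ext fun l =>
              Subtype.ext (show (1 : G) * (l : G) * (1 : G)⁻¹ = l by group), Subgroup.map_id])
          mul_smul := fun a b H => Subtype.ext (by
            show H.1.map (cj (a * b)).toMonoidHom = (H.1.map (cj b).toMonoidHom).map (cj a).toMonoidHom
            rw [Subgroup.map_map]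
            exact congrArg (fun F => Subgroup.map F H.1) (MonoidHom.ext fun l => Subtype.ext
              (show ((a : G) * b) * (l : G) * ((a : G) * b)⁻¹ =
                (a : G) * ((b : G) * l * (b : G)⁻¹) * (a : G)⁻¹ by group))) }
      let e5 : Sylow 5 Y.L ≃ {H : Subgroup Y.L // Nat.card H = 5} :=
        { toFun := fun Q => ⟨Q, by simpa using Agent.H36.card_sylow_eq h60 Q (a := 1) (m := 12) rfl (by norm_num)⟩
          invFun := fun H => Sylow.ofCard H.1 (by
            rw [H.2, h60, factorization_sixty, pow_one])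
          left_inv := fun Q => Sylow.ext (by simp)
          right_inv := fun H => Subtype.ext (by simp) }
      have hsix : Nat.card {H : Subgroup Y.L // Nat.card H = 5} = 6 := (Nat.card_congr e5).symm.trans h6
      let H0 : {H : Subgroup Y.L // Nat.card H = 5} := ⟨zpowers z, by rw [Nat.card_zpowers, hz]⟩
      have hAc : Nat.card A = p := by rw [Nat.card_zpowers, hw']
      have hfix : ∀ a : A, a • H0 = H0 := by
        have horb : Nat.card (MulAction.orbit A H0) = 1 := by
          have hd : Nat.card (MulAction.orbit A H0) ∣ p := by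
            rw [← hAc, Nat.card_congr (MulAction.orbitEquivQuotientStabilizer A H0),
              ← Subgroup.index_eq_card]
            exact index_dvd_card _
          have hle : Nat.card (MulAction.orbit A H0) ≤ 6 :=
            hsix ▸ Finite.card_subtype_le _
          rcases (Nat.dvd_prime hp).1 hd with h | h <;> omega
        intro a
        have : Subsingleton (MulAction.orbit A H0) := (Nat.card_eq_one_iff_unique.1 horb).1
        exact congrArg Subtype.val (Subsingleton.elim (⟨a • H0, MulAction.mem_orbit _ _⟩ :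
          MulAction.orbit A H0) ⟨H0, MulAction.mem_orbit_self _⟩)
      have hmem : (w : G) * z * (w : G)⁻¹ ∈ (zpowers (z : G)) := by
        have h1 := congrArg Subtype.val (hfix ⟨w, mem_zpowers _⟩)
        have h2 : cj ⟨w, mem_zpowers _⟩ z ∈ zpowers z := h1.le ⟨z, mem_zpowers z, rfl⟩
        obtain ⟨i, hi⟩ := h2
        exact ⟨i, by simpa [cj] using congrArg Subtype.val hi⟩
      -- an automorphism of order dividing a prime at least seven of a group of order five
      obtain ⟨i, hi⟩ := mem_zpowers_iff.1 hmem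
      have hzo : orderOf (z : G) = 5 := by rw [Subgroup.orderOf_coe, hz]
      have hiter : ∀ j : ℕ, (w : G) ^ j * (z : G) * ((w : G) ^ j)⁻¹ = (z : G) ^ (i ^ j) := by
        intro j
        induction j with
        | zero => simp
        | succ j ih =>
          calc (w : G) ^ (j + 1) * (z : G) * ((w : G) ^ (j + 1))⁻¹
              = (w : G) * ((w : G) ^ j * (z : G) * ((w : G) ^ j)⁻¹) * (w : G)⁻¹ := by
                rw [pow_succ']; group
            _ = ((w : G) * (z : G) * (w : G)⁻¹) ^ (i ^ j) := by rw [ih, conj_zpow]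
            _ = (z : G) ^ (i ^ (j + 1)) := by rw [← hi, ← zpow_mul, ← pow_succ']
      have hp' := hiter p
      rw [← hw', pow_orderOf_eq_one, one_mul, inv_one, mul_one, hw'] at hp'
      have hzp : ((i : ZMod 5)) ^ p = 1 := by
        have h0 : (5 : ℤ) ∣ i ^ p - 1 := by
          have h1 : (z : G) ^ (i ^ p - 1) = 1 := by rw [zpow_sub, ← hp', zpow_one, mul_inv_cancel]
          have := orderOf_dvd_iff_zpow_eq_one.2 h1
          rwa [hzo] at this
        have := (ZMod.intCast_zmod_eq_zero_iff_dvd _ 5).2 (by exact_mod_cast h0)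
        push_cast at this
        exact sub_eq_zero.1 this
      have hne0 : (i : ZMod 5) ≠ 0 := fun h => by
        rw [h, zero_pow hp.ne_zero] at hzp
        exact zero_ne_one hzp
      have hi1 : (i : ZMod 5) = 1 := by
        have h4 := ZMod.pow_card_sub_one_eq_one hne0
        have hg : Nat.gcd p (5 - 1) = 1 := by
          refine (hp.coprime_iff_not_dvd.2 fun h => ?_)
          have := Nat.le_of_dvd (by norm_num) h
          omega
        have := (pow_gcd_eq_one (a := (i : ZMod 5))).2 ⟨hzp, h4⟩
        rwa [hg, pow_one] at this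
      have hz1 : (z : G) ^ i = z := by
        have h0 : (5 : ℤ) ∣ i - 1 := by
          have := (ZMod.intCast_zmod_eq_zero_iff_dvd (i - 1) 5).1 (by push_cast; rw [hi1, sub_self])
          exact_mod_cast this
        have h1 : (z : G) ^ (i - 1) = 1 := orderOf_dvd_iff_zpow_eq_one.1 (by rw [hzo]; exact h0)
        rw [zpow_sub, zpow_one, mul_inv_eq_one] at h1
        exact h1
      rw [hz1] at hi
      exact mul_inv_eq_iff_eq_mul.1 hi.symm
    -- hence `w` centralises the perfect group
    let K : Subgroup Y.L := closure {z : Y.L | orderOf z = 5}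
    have hKn : K.Normal := by
      refine ⟨fun x hx g => ?_⟩
      induction hx using closure_induction with
      | mem y hy => exact subset_closure (show orderOf (g * y * g⁻¹) = 5 from
          ((MulAut.conj g).orderOf_eq y).trans hy)
      | one => simp
      | mul y z _ _ iy iz => rw [show g * (y * z) * g⁻¹ = g * y * g⁻¹ * (g * z * g⁻¹) by group]; exact mul_mem iy iz
      | inv y _ iy => rw [show g * y⁻¹ * g⁻¹ = (g * y * g⁻¹)⁻¹ by group]; exact inv_mem iy
    have hKtop : K = ⊤ := (hKn.eq_bot_or_eq_top).resolve_left fun h => by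
      obtain ⟨z, hz⟩ := exists_prime_orderOf_dvd_card' (G := Y.L) 5 (by rw [h60]; norm_num)
      have hm : z ∈ K := subset_closure hz
      rw [h, mem_bot] at hm
      rw [hm, orderOf_one] at hz
      omega
    have hwL : ∀ l : Y.L, (w : G) * l = l * w := by
      have hle : K ≤ (centralizer ({(w : G)} : Set G)).comap Y.L.subtype := by
        refine (closure_le _).2 fun z hz => ?_
        exact mem_centralizer_singleton_iff.2 (hmove z hz).symm
      intro l
      exact (mem_centralizer_singleton_iff.1 (hle (hKtop.ge (mem_top l)))).symm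
    let B := Φ.range.map C.subtype
    have hB : Nat.card B = 120 := (card_map_of_injective C.subtype_injective).trans hrange
    have hwB : ∀ h ∈ B, (w : G) * h = h * w := by
      rintro _ ⟨_, ⟨⟨a, l⟩, rfl⟩, rfl⟩
      show (w : G) * ((if a = 1 then 1 else t) * (l : G)) = (if a = 1 then 1 else t) * (l : G) * w
      have hwt : (w : G) * t = t * w := mem_centralizer_singleton_iff.1 w.2
      split
      · rw [one_mul, hwL]
      · rw [← mul_assoc, hwt, mul_assoc, hwL, mul_assoc]
    obtain ⟨D⟩ := exists_profile hn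
    obtain ⟨oa, ob, oc, -, -⟩ := opts_eight
    have hpG : p ∣ Nat.card G := hn ▸ hp1463.trans (by norm_num)
    have hcop : (Nat.card B).Coprime p := by
      rw [hB]
      refine Nat.Coprime.symm (hp.coprime_iff_not_dvd.2 fun h => ?_)
      have h3 : p ∣ Nat.gcd 120 1463 := Nat.dvd_gcd h hp1463
      norm_num at h3
      omega
    have hmem : p = 7 ∨ p = 11 ∨ p = 19 := by
      have h : p ∣ 7 * (11 * 19) := by norm_num; exact hp1463
      rcases hp.dvd_mul.1 h with h | h
      · exact Or.inl ((Nat.prime_dvd_prime_iff_eq hp (by norm_num)).1 h)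
      rcases hp.dvd_mul.1 h with h | h
      · exact Or.inr (Or.inl ((Nat.prime_dvd_prime_iff_eq hp (by norm_num)).1 h))
      · exact Or.inr (Or.inr ((Nat.prime_dvd_prime_iff_eq hp (by norm_num)).1 h))
    rcases hmem with rfl | rfl | rfl
    · exact (oc _ D.hc).1 ((by norm_num : 8 ∣ 120).trans (hB ▸ dvd_cofactor hpG D.dc hw' hwB hcop))
    · exact (ob _ D.hb).2.1 (hB ▸ dvd_cofactor hpG D.db hw' hwB hcop)
    · exact (oa _ D.ha).1 ((by norm_num : 4 ∣ 120).trans (hB ▸ dvd_cofactor hpG D.da hw' hwB hcop))
  rw [hk1, mul_one] at hk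
  exact ⟨{ t := t, ht := ht,
           e := (MulEquiv.ofBijective Φ (hinj.bijective_of_nat_card_le (by rw [hk, h120]))).symm.trans
             ((MulEquiv.refl _).prodCongr eL),
           sylow_card := Uniq.sylow_card_of_order hn }⟩

end Cfsg.Agent.Coprime.J1.ByOrder
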