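import Cfsg.Agent.Coprime.J1.ByOrder.TwoSylow
import Cfsg.Agent.Coprime.Action
import Cfsg.Agent.Cores.Constrained
import Cfsg.Agent.Cores.PSolvable

/-!
# Involution centralisers of a simple group of order 175560 are not solvable

Otherwise every prime divisor of the core of such a centraliser divides the centraliser of a Sylow
two-subgroup, the Sylow two-subgroups meet trivially, and their number, congruent to one modulo eight,
forces an element of order five to centralise a Sylow two-subgroup.
-/

set_option autoImplicit false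
set_option linter.style.haveILetI false

namespace Cfsg.Agent.Coprime.J1.ByOrder

open Subgroup

set_option linter.unusedSectionVars false

variable {G : Type*} [Group G] [Finite G]

/-- The core of an involution centraliser, as a subgroup of the group. -/
def coreAt (a : G) : Subgroup G :=
  (oddCore (centralizer ({a} : Set G))).map (centralizer ({a} : Set G)).subtype

theorem card_coreAt (a : G) :
    Nat.card (coreAt a) = Nat.card (oddCore (centralizer ({a} : Set G))) :=
  card_map_of_injective (centralizer ({a} : Set G)).subtype_injective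

theorem card_coreAt_conj (g a : G) : Nat.card (coreAt (g * a * g⁻¹)) = Nat.card (coreAt a) := by
  let e : centralizer ({a} : Set G) ≃* centralizer ({g * a * g⁻¹} : Set G) :=
    ((centralizer ({a} : Set G)).equivMapOfInjective (MulAut.conj g).toMonoidHom
      (MulAut.conj g).injective).trans (MulEquiv.subgroupCongr (by
        ext x
        simp only [mem_map, MulEquiv.coe_toMonoidHom, MulAut.conj_apply, mem_centralizer_singleton_iff]
        constructor
        · rintro ⟨y, hy, rfl⟩
          calc g * y * g⁻¹ * (g * a * g⁻¹) = g * (y * a) * g⁻¹ := by group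
            _ = g * a * g⁻¹ * (g * y * g⁻¹) := by rw [hy]; group
        · intro hx
          refine ⟨g⁻¹ * x * g, ?_, by group⟩
          calc g⁻¹ * x * g * a = g⁻¹ * (x * (g * a * g⁻¹)) * g := by group
            _ = a * (g⁻¹ * x * g) := by rw [hx]; group))
  rw [card_coreAt, card_coreAt, oddCore, oddCore, ← Cores.pPrimeCore_map_mulEquiv (p := 2) e]
  exact (card_map_of_injective (f := e.toMonoidHom) e.injective)

theorem coreAt_le (a : G) : coreAt a ≤ centralizer ({a} : Set G) := map_subtype_le _

theorem le_normalizer_coreAt (a : G) : centralizer ({a} : Set G) ≤ normalizer (coreAt a : Set G) := by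
  intro c hc
  rw [mem_normalizer_iff]
  intro h
  constructor
  · rintro ⟨k, hk, rfl⟩
    exact ⟨⟨c, hc⟩ * k * ⟨c, hc⟩⁻¹, Normal.conj_mem inferInstance k hk _, rfl⟩
  · rintro ⟨k, hk, he⟩
    refine ⟨⟨c, hc⟩⁻¹ * k * ⟨c, hc⟩⁻¹⁻¹, Normal.conj_mem inferInstance k hk _, ?_⟩
    show c⁻¹ * (k : G) * c⁻¹⁻¹ = h
    rw [show (k : G) = c * h * c⁻¹ from he]
    group

theorem squarefree_of_odd (hn : Nat.card G = 175560) {H : Subgroup G} (hH : Odd (Nat.card H)) :
    Squarefree (Nat.card H) := by
  have h : Nat.card H ∣ 21945 := (Nat.Coprime.pow_right 3 (Nat.coprime_two_right.2 hH)).dvd_of_dvd_mul_left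
    (show Nat.card H ∣ 2 ^ 3 * 21945 by rw [show (2 : ℕ) ^ 3 * 21945 = Nat.card G by rw [hn]; norm_num]; exact card_subgroup_dvd_card H)
  refine Squarefree.squarefree_of_dvd h ?_
  rw [Nat.squarefree_iff_nodup_primeFactorsList (by norm_num)]
  simp

/-- An element of odd prime order of an involution centraliser whose core it divides lies in the core. -/
theorem mem_coreAt (hn : Nat.card G = 175560) {a u : G} {p : ℕ} [hp : Fact p.Prime] (hp2 : p ≠ 2)
    (hu : orderOf u = p) (hua : u * a = a * u) (hd : p ∣ Nat.card (coreAt a)) : u ∈ coreAt a := by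
  set C := centralizer ({a} : Set G) with hC
  have hmem : u ∈ C := mem_centralizer_singleton_iff.2 hua
  refine ⟨⟨u, hmem⟩, ?_, rfl⟩
  rw [SetLike.mem_coe, ← QuotientGroup.eq_one_iff]
  by_contra hne
  have h1 : orderOf (QuotientGroup.mk' (oddCore C) ⟨u, hmem⟩) = p :=
    orderOf_eq_prime (by rw [← map_pow, show (⟨u, hmem⟩ : C) ^ p = 1 from
      Subtype.ext (show u ^ p = 1 by rw [← hu, pow_orderOf_eq_one]), map_one]) hne
  have h2 : p ∣ (oddCore C).index := h1 ▸ index_eq_card (oddCore C) ▸ orderOf_dvd_natCard _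
  have h3 : p * p ∣ 175560 := hn ▸ (mul_dvd_mul (card_coreAt a ▸ hd) h2).trans
    ((card_mul_index (oddCore C)).symm ▸ card_subgroup_dvd_card C)
  have h4 : p * p ∣ 21945 := ((Nat.Coprime.mul_left
    ((Nat.coprime_primes hp.out Nat.prime_two).2 hp2) ((Nat.coprime_primes hp.out Nat.prime_two).2 hp2)).pow_right 3).dvd_of_dvd_mul_left
      (show p * p ∣ 2 ^ 3 * 21945 by norm_num; exact h3)
  have hsq : Squarefree 21945 := by
    rw [Nat.squarefree_iff_nodup_primeFactorsList (by norm_num)]
    simp
  exact hp.out.ne_one (Nat.isUnit_iff.1 (hsq p h4))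

variable [IsSimpleGroup G]

/-- A prime dividing the core of an involution centraliser divides the centraliser of a Sylow
two-subgroup containing the involution. -/
theorem dvd_centralizer_sylow (hn : Nat.card G = 175560) (S : Sylow 2 G) {t : G} (ht : orderOf t = 2)
    {p : ℕ} [hp : Fact p.Prime] (hd : p ∣ Nat.card (coreAt t)) :
    p ∣ Nat.card (centralizer ((S : Subgroup G) : Set G)) := by
  classical
  have : Fact (Nat.Prime 2) := ⟨Nat.prime_two⟩
  have hp2 : p ≠ 2 := by
    rintro rfl
    have h := (card_coreAt t) ▸ (Cores.odd_card_oddCore (G := centralizer ({t} : Set G)))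
    exact Nat.not_even_iff_odd.2 h (even_iff_two_dvd.2 hd)
  by_contra hnS
  have hord : ∀ a ∈ (S : Subgroup G), a ≠ 1 → orderOf a = 2 := fun a ha ha1 =>
    orderOf_eq_prime (by rw [sq, sq_eq_one hn S a ha]) ha1
  have hdvd : ∀ a ∈ (S : Subgroup G), a ≠ 1 → p ∣ Nat.card (coreAt a) := by
    intro a ha ha1
    obtain ⟨g, hg⟩ := isConj_iff.1 (isConj_involution hn ht (hord a ha ha1))
    rw [← hg, card_coreAt_conj]
    exact hd
  have hScomm : ∀ a ∈ (S : Subgroup G), ∀ s ∈ (S : Subgroup G), s * a = a * s :=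
    fun a ha s hs => mul_comm_sylow hn S hs ha
  have hinv : ∀ a ∈ (S : Subgroup G), a ≠ 1 →
      (S : Subgroup G) ≤ normalizer (coreAt a : Set G) ∧
      (Nat.card (S : Subgroup G)).Coprime (Nat.card (coreAt a)) := by
    intro a ha ha1
    refine ⟨fun s hs => le_normalizer_coreAt a (mem_centralizer_singleton_iff.2 (hScomm a ha s hs)), ?_⟩
    rw [card_sylow_two hn S, show (8 : ℕ) = 2 ^ 3 by norm_num, card_coreAt]
    exact (Nat.coprime_two_left.2 Cores.odd_card_oddCore).pow_left 3
  have hsolS : Group.IsSolvable (S : Subgroup G) :=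
    haveI := S.2.isNilpotent
    inferInstance
  -- the invariant subgroup attached to each involution
  have hP : ∀ a : G, ∃ u : G, a ∈ (S : Subgroup G) → a ≠ 1 → orderOf u = p ∧ u ∈ coreAt a ∧
      ∀ s ∈ (S : Subgroup G), s * u * s⁻¹ ∈ zpowers u := by
    intro a
    by_cases ha : a ∈ (S : Subgroup G) ∧ a ≠ 1
    · obtain ⟨hN, hc⟩ := hinv a ha.1 ha.2
      obtain ⟨P, hPS⟩ := exists_invariant_sylow hN hc (Or.inl hsolS) p
      have hPc : Nat.card (P : Subgroup (coreAt a)) = p := by
        rw [P.card_eq_multiplicity, Nat.factorization_eq_one_of_squarefree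
          (squarefree_of_odd hn (card_coreAt a ▸ Cores.odd_card_oddCore)) hp.out (hdvd a ha.1 ha.2),
          pow_one]
      obtain ⟨v, hv⟩ := exists_prime_orderOf_dvd_card' (G := (P : Subgroup (coreAt a))) p (by rw [hPc])
      refine ⟨((v : coreAt a) : G), fun _ _ => ⟨by rw [Subgroup.orderOf_coe, Subgroup.orderOf_coe, hv],
        (v : coreAt a).2, fun s hs => ?_⟩⟩
      have hmap : (P : Subgroup (coreAt a)).map (coreAt a).subtype = zpowers ((v : coreAt a) : G) := by
        symm
        refine eq_of_le_of_card_ge (zpowers_le.2 ⟨v, v.2, rfl⟩) ?_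
        rw [Nat.card_zpowers, Subgroup.orderOf_coe, Subgroup.orderOf_coe, hv,
          card_map_of_injective (coreAt a).subtype_injective, hPc]
      rw [hmap] at hPS
      exact (mem_normalizer_iff.1 (hPS hs) _).1 (mem_zpowers _)
    · exact ⟨1, fun h1 h2 => absurd ⟨h1, h2⟩ ha⟩
  choose u hu using hP
  let E : G → Subgroup G := fun a => (S : Subgroup G) ⊓ centralizer ({u a} : Set G)
  have hself : ∀ a ∈ (S : Subgroup G), a ≠ 1 → a ∈ E a := fun a ha ha1 =>
    ⟨ha, mem_centralizer_singleton_iff.2
      (mem_centralizer_singleton_iff.1 (coreAt_le a (hu a ha ha1).2.1)).symm⟩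
  -- a generator of the prime order subgroup is centralised by a subgroup of index at most two
  have hfour : ∀ a ∈ (S : Subgroup G), a ≠ 1 → 4 ≤ Nat.card (E a) := by
    intro a ha ha1
    obtain ⟨hup, -, hnorm⟩ := hu a ha ha1
    have hneg : ∀ s ∈ (S : Subgroup G), s * u a ≠ u a * s → s * u a * s⁻¹ = (u a)⁻¹ := by
      intro s hs hne
      obtain ⟨k, hk⟩ := mem_zpowers_iff.1 (hnorm s hs)
      have h2 : u a ^ (k * k) = u a := by
        rw [zpow_mul, hk, conj_zpow, hk, ← mul_assoc, ← mul_assoc, sq_eq_one hn S s hs, one_mul,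
          mul_assoc, ← mul_inv_rev, sq_eq_one hn S s hs, inv_one, mul_one]
      have h3 : ((k * k : ℤ) : ZMod p) = 1 := by
        rw [← Int.cast_one, ZMod.intCast_eq_intCast_iff_dvd_sub, ← hup, orderOf_dvd_iff_zpow_eq_one,
          zpow_sub, h2, zpow_one, mul_inv_cancel]
      rw [Int.cast_mul, mul_self_eq_one_iff] at h3
      rcases h3 with h3 | h3
      · exfalso
        apply hne
        rw [← Int.cast_one, ZMod.intCast_eq_intCast_iff_dvd_sub, ← hup, orderOf_dvd_iff_zpow_eq_one,
          zpow_sub, hk, zpow_one, mul_inv_eq_one] at h3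
        calc s * u a = s * u a * s⁻¹ * s := by rw [inv_mul_cancel_right]
          _ = u a * s := by rw [← h3]
      · rw [← Int.cast_one, ← Int.cast_neg, ZMod.intCast_eq_intCast_iff_dvd_sub, ← hup,
          orderOf_dvd_iff_zpow_eq_one, zpow_sub, hk, zpow_neg, zpow_one, mul_inv_eq_one] at h3
        exact h3.symm
    by_contra hlt
    obtain ⟨s', hs', hs'E⟩ : ∃ s' ∈ (S : Subgroup G), s' ∉ E a := by
      by_contra! h
      have hle : (S : Subgroup G) ≤ E a := h
      have := Nat.le_of_dvd Nat.card_pos (card_dvd_of_le hle)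
      rw [card_sylow_two hn S] at this
      omega
    have hne' : s' * u a ≠ u a * s' := fun h => hs'E ⟨hs', mem_centralizer_singleton_iff.2 h⟩
    let f : ↥(S : Subgroup G) → E a × Bool := fun s =>
      if h : (s : G) ∈ E a then (⟨s, h⟩, true)
      else (⟨(s : G) * s', ⟨mul_mem s.2 hs', mem_centralizer_singleton_iff.2 (by
        have h1 := hneg s s.2 fun hc => h ⟨s.2, mem_centralizer_singleton_iff.2 hc⟩
        have h2 := hneg s' hs' hne'
        have h3 : (s : G) * s' * u a * ((s : G) * s')⁻¹ = u a := by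
          calc (s : G) * s' * u a * ((s : G) * s')⁻¹ = (s : G) * (s' * u a * s'⁻¹) * (s : G)⁻¹ := by group
            _ = u a := by rw [h2, ← conj_inv, h1, inv_inv]
        exact mul_inv_eq_iff_eq_mul.1 h3)⟩⟩, false)
    have hf : Function.Injective f := by
      intro x y hxy
      simp only [f] at hxy
      split at hxy <;> split at hxy <;> simp only [Prod.mk.injEq, Subtype.mk.injEq, Bool.true_eq_false,
        Bool.false_eq_true, and_false, and_true] at hxy
      · exact Subtype.ext hxy
      · exact Subtype.ext (mul_right_cancel (congrArg Subtype.val hxy))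
    have := Nat.card_le_card_of_injective f hf
    rw [card_sylow_two hn S, Nat.card_prod, Nat.card_eq_fintype_card (α := Bool), Fintype.card_bool] at this
    omega
  have hnot : ∀ a ∈ (S : Subgroup G), a ≠ 1 → ¬ (S : Subgroup G) ≤ E a := by
    intro a ha ha1 hle
    apply hnS
    rw [← (hu a ha ha1).1]
    exact Subgroup.orderOf_dvd_natCard _ (mem_centralizer_iff.2 fun s hs =>
      mem_centralizer_singleton_iff.1 (hle hs).2)
  -- the subgroup is determined by any involution centralising its generator
  have hsame : ∀ a ∈ (S : Subgroup G), a ≠ 1 → ∀ b ∈ E a, b ≠ 1 → E a = E b := by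
    intro a ha ha1 b hb hb1
    obtain ⟨hua, -, hna⟩ := hu a ha ha1
    obtain ⟨hub, hmb, hnb⟩ := hu b hb.1 hb1
    have hmem : u a ∈ coreAt b := mem_coreAt hn hp2 hua
      (mem_centralizer_singleton_iff.1 hb.2).symm (hdvd b hb.1 hb1)
    obtain ⟨hN, hc⟩ := hinv b hb.1 hb1
    have hcard : ∀ v ∈ coreAt b, orderOf v = p → Nat.card ((zpowers v).subgroupOf (coreAt b)) =
        p ^ (Nat.card (coreAt b)).factorization p := by
      intro v hv hvp
      rw [Nat.card_congr (subgroupOfEquivOfLe (zpowers_le.2 hv)).toEquiv, Nat.card_zpowers, hvp,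
        Nat.factorization_eq_one_of_squarefree
          (squarefree_of_odd hn (card_coreAt b ▸ Cores.odd_card_oddCore)) hp.out (hdvd b hb.1 hb1),
          pow_one]
    let Pa : Sylow p (coreAt b) := Sylow.ofCard _ (hcard _ hmem hua)
    let Pb : Sylow p (coreAt b) := Sylow.ofCard _ (hcard _ hmb hub)
    have hmapa : (Pa : Subgroup (coreAt b)).map (coreAt b).subtype = zpowers (u a) := by
      simp only [Pa, Sylow.coe_ofCard]
      exact map_subgroupOf_eq_of_le (zpowers_le.2 hmem)
    have hmapb : (Pb : Subgroup (coreAt b)).map (coreAt b).subtype = zpowers (u b) := by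
      simp only [Pb, Sylow.coe_ofCard]
      exact map_subgroupOf_eq_of_le (zpowers_le.2 hmb)
    have hnorm : ∀ v : G, (∀ s ∈ (S : Subgroup G), s * v * s⁻¹ ∈ zpowers v) →
        (S : Subgroup G) ≤ normalizer (zpowers v : Set G) := by
      intro v hv s hs
      rw [mem_normalizer_iff]
      intro x
      constructor
      · rintro ⟨i, rfl⟩
        rw [← conj_zpow]
        exact zpow_mem (hv s hs) i
      · intro hx
        obtain ⟨i, hi⟩ := hx
        have hx' : x = s * (v ^ i) * s⁻¹ := by
          rw [show v ^ i = s * x * s⁻¹ from hi, ← mul_assoc, ← mul_assoc, sq_eq_one hn S s hs,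
            one_mul, mul_assoc, ← mul_inv_rev, sq_eq_one hn S s hs, inv_one, mul_one]
        rw [hx', ← conj_zpow]
        exact zpow_mem (hv s hs) i
    obtain ⟨c, hcS, hc'⟩ := exists_conj_invariant_sylow hN hc (Or.inl hsolS) p Pa Pb
      (by rw [hmapa]; exact hnorm _ hna) (by rw [hmapb]; exact hnorm _ hnb)
    have hconj : ∀ s ∈ (S : Subgroup G), (s ∈ centralizer ({u a} : Set G) ↔ s ∈ centralizer ({u b} : Set G)) := by
      have hz : (zpowers (u a)).map (MulAut.conj (c : G)).toMonoidHom = zpowers (u b) := by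
        rw [← hmapa, ← hmapb, ← hc', Sylow.pointwise_smul_def, Subgroup.map_map]
        show _ = ((Pa : Subgroup (coreAt b)).map (MulAut.conj c).toMonoidHom).map _
        rw [Subgroup.map_map]
        rfl
      intro s hs
      have hcs : (c : G) * s = s * c := (mem_centralizer_iff.1 hcS s hs).symm
      have key : ∀ v w : G, w ∈ zpowers ((c : G) * v * (c : G)⁻¹) → s ∈ centralizer ({v} : Set G) →
          s ∈ centralizer ({w} : Set G) := by
        intro v w hw hv
        obtain ⟨i, rfl⟩ := hw
        refine mem_centralizer_singleton_iff.2 (Commute.zpow_right ?_ i)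
        show s * ((c : G) * v * (c : G)⁻¹) = (c : G) * v * (c : G)⁻¹ * s
        have hcs' : (c : G)⁻¹ * s = s * (c : G)⁻¹ := (Commute.inv_left hcs).eq
        rw [mul_assoc ((c : G) * v), hcs', ← mul_assoc s, ← mul_assoc s, ← hcs,
          mul_assoc (c : G) s, mem_centralizer_singleton_iff.1 hv]
        group
      constructor
      · refine key (u a) (u b) ?_
        have h : u b ∈ (zpowers (u a)).map (MulAut.conj (c : G)).toMonoidHom := hz ▸ mem_zpowers _
        rwa [MonoidHom.map_zpowers] at h
      · intro h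
        have h' : (c : G) * u a * (c : G)⁻¹ ∈ zpowers (u b) := hz ▸ ⟨u a, mem_zpowers _, rfl⟩
        obtain ⟨i, hi⟩ := h'
        have hh : s * ((c : G) * u a * (c : G)⁻¹) = (c : G) * u a * (c : G)⁻¹ * s := by
          rw [← show (u b) ^ i = (c : G) * u a * (c : G)⁻¹ from hi]
          exact (Commute.zpow_right (mem_centralizer_singleton_iff.1 h) i).eq
        refine mem_centralizer_singleton_iff.2 ?_
        have hcs' : (c : G)⁻¹ * s = s * (c : G)⁻¹ := (Commute.inv_left hcs).eq
        calc s * u a = (c : G)⁻¹ * (s * ((c : G) * u a * (c : G)⁻¹)) * (c : G) := by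
              rw [← mul_assoc (c : G)⁻¹ s, hcs']; group
          _ = (c : G)⁻¹ * ((c : G) * u a * (c : G)⁻¹ * s) * (c : G) := by rw [hh]
          _ = u a * s := by rw [mul_assoc ((c : G) * u a), hcs', ← mul_assoc]; group
    ext s
    exact ⟨fun h => ⟨h.1, (hconj s h.1).1 h.2⟩, fun h => ⟨h.1, (hconj s h.1).2 h.2⟩⟩
  -- two four subgroups of a group of order eight meet
  obtain ⟨a₀, ha₀, ha₀1⟩ : ∃ a ∈ (S : Subgroup G), a ≠ 1 := by
    by_contra! h
    have hb : (S : Subgroup G) = ⊥ := (eq_bot_iff_forall _).2 h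
    have := card_sylow_two hn S
    rw [hb, card_bot] at this
    omega
  obtain ⟨c₀, hc₀, hc₀E⟩ : ∃ c ∈ (S : Subgroup G), c ∉ E a₀ := by
    by_contra! h
    exact hnot a₀ ha₀ ha₀1 h
  have hc₀1 : c₀ ≠ 1 := fun h => hc₀E (h ▸ one_mem _)
  obtain ⟨b, hb, hb'⟩ : ∃ b, b ≠ 1 ∧ b ∈ E a₀ ⊓ E c₀ := by
    by_contra! h
    let f : E a₀ × E c₀ → (S : Subgroup G) := fun z => ⟨(z.1 : G) * z.2, mul_mem z.1.2.1 z.2.2.1⟩
    have hf : Function.Injective f := by
      rintro ⟨x, y⟩ ⟨x', y'⟩ hxy
      have h1 : (x : G) * y = x' * y' := congrArg Subtype.val hxy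
      have h2 : (x' : G)⁻¹ * x = y' * (y : G)⁻¹ := by
        rw [eq_mul_inv_iff_mul_eq, mul_assoc, h1, inv_mul_cancel_left]
      have h3 : (x' : G)⁻¹ * x = 1 := by
        by_contra hne
        exact h _ hne ⟨(E a₀).mul_mem ((E a₀).inv_mem x'.2) x.2, h2 ▸ (E c₀).mul_mem y'.2 ((E c₀).inv_mem y.2)⟩
      rw [h3, eq_comm, mul_inv_eq_one] at h2
      rw [inv_mul_eq_one] at h3
      exact Prod.ext (Subtype.ext h3.symm) (Subtype.ext h2.symm)
    have h16 := Nat.card_le_card_of_injective f hf
    rw [card_sylow_two hn S, Nat.card_prod] at h16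
    have := Nat.mul_le_mul (hfour a₀ ha₀ ha₀1) (hfour c₀ hc₀ hc₀1)
    omega
  apply hc₀E
  rw [hsame a₀ ha₀ ha₀1 b hb'.1 hb, ← hsame c₀ hc₀ hc₀1 b hb'.2 hb]
  exact hself c₀ hc₀ hc₀1

theorem solvable_arith :
    ∀ m ∈ Nat.divisors 3135, 3135 / m % 8 = 1 → m ≠ 3135 → 5 ∣ m := by
  decide +kernel

/-- The centraliser of an involution is not solvable. -/
theorem not_isSolvable (hn : Nat.card G = 175560) {t : G} (ht : orderOf t = 2) :
    ¬ Group.IsSolvable (centralizer ({t} : Set G)) := by
  classical
  intro hsol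
  have : Fact (Nat.Prime 2) := ⟨Nat.prime_two⟩
  -- Sylow two-subgroups are normal in the centralisers of their involutions
  have hnorm : ∀ (Q : Sylow 2 G) (a : G), a ∈ (Q : Subgroup G) → orderOf a = 2 →
      centralizer ({a} : Set G) ≤ normalizer ((Q : Subgroup G) : Set G) := by
    intro Q a ha hao
    set C := centralizer ({a} : Set G) with hC
    have hQC : (Q : Subgroup G) ≤ C := fun s hs =>
      mem_centralizer_singleton_iff.2 (mul_comm_sylow hn Q hs ha)
    have : Group.IsSolvable C := by
      obtain ⟨g, hg⟩ := isConj_iff.1 (isConj_involution hn hao ht)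
      let f : C →* centralizer ({t} : Set G) :=
        { toFun := fun x => ⟨g * (x : G) * g⁻¹, mem_centralizer_singleton_iff.2 (by
            rw [← hg]
            calc g * (x : G) * g⁻¹ * (g * a * g⁻¹) = g * ((x : G) * a) * g⁻¹ := by group
              _ = g * a * g⁻¹ * (g * (x : G) * g⁻¹) := by
                rw [mem_centralizer_singleton_iff.1 x.2]; group)⟩
          map_one' := Subtype.ext (show g * 1 * g⁻¹ = 1 by group)
          map_mul' := fun x y => Subtype.ext
            (show g * ((x : G) * y) * g⁻¹ = g * (x : G) * g⁻¹ * (g * (y : G) * g⁻¹) by group) }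
      exact Group.isSolvable_of_isSolvable_injective (f := f) (fun x y h => by
        have := congrArg Subtype.val h
        simpa [f] using this)
    -- the core centralises the Sylow subgroup
    have hcore : coreAt a ≤ centralizer ((Q : Subgroup G) : Set G) := by
      set O := coreAt a with hO
      set B := O ⊓ centralizer ((Q : Subgroup G) : Set G) with hB
      have hsq : Squarefree (Nat.card O) :=
        squarefree_of_odd hn (card_coreAt a ▸ Cores.odd_card_oddCore)
      have hdvd : Nat.card O ∣ Nat.card B := by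
        rw [← Nat.prod_primeFactors_of_squarefree hsq]
        refine Finset.prod_primes_dvd _ (fun p hp => (Nat.prime_of_mem_primeFactors hp).prime) ?_
        intro p hp
        haveI := Fact.mk (Nat.prime_of_mem_primeFactors hp)
        have hd := Nat.dvd_of_mem_primeFactors hp
        have hp2 : p ≠ 2 := by
          rintro rfl
          exact Nat.not_even_iff_odd.2 (card_coreAt a ▸ Cores.odd_card_oddCore) (even_iff_two_dvd.2 hd)
        obtain ⟨x, hx⟩ := exists_prime_orderOf_dvd_card' (G := centralizer ((Q : Subgroup G) : Set G)) p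
          (dvd_centralizer_sylow hn Q hao hd)
        have hx' : orderOf (x : G) = p := by rw [Subgroup.orderOf_coe, hx]
        have hxO : (x : G) ∈ O := mem_coreAt hn hp2 hx' (mem_centralizer_iff.1 x.2 a ha).symm hd
        exact hx' ▸ Subgroup.orderOf_dvd_natCard _ (show (x : G) ∈ B from ⟨hxO, x.2⟩)
      intro z hz
      have hBO : B = O := eq_of_le_of_card_ge inf_le_left (Nat.le_of_dvd Nat.card_pos hdvd)
      exact (hBO.ge hz).2
    -- the image of the Sylow subgroup is the 2-core of the quotient
    set N := oddCore C with hN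
    set π := QuotientGroup.mk' N with hπ
    set Qb := ((Q : Subgroup G).subgroupOf C).map π with hQb
    have hQp : IsPGroup 2 Qb := (Q.2.comap_of_injective C.subtype C.subtype_injective).map π
    have hs : IsPSolvable 2 (C ⧸ N) := Cores.isPSolvable_of_isSolvable
    have hcl := Cores.centralizer_pCore_le hs (Cores.pPrimeCore_quotient_pPrimeCore (p := 2) (G := C))
    obtain ⟨R, hR⟩ := hQp.exists_le_sylow
    have hRc : Nat.card R ∣ 8 := by
      obtain ⟨k, hk⟩ := IsPGroup.iff_card.1 R.2
      have h1 : Nat.card R ∣ 175560 := hn ▸ (card_subgroup_dvd_card (R : Subgroup (C ⧸ N))).trans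
        ((card_quotient_dvd_card N).trans (card_subgroup_dvd_card C))
      rw [hk] at h1 ⊢
      have h2 : (2 : ℕ) ^ k ∣ 2 ^ 3 :=
        (Nat.Coprime.pow_left k (by norm_num : Nat.Coprime 2 21945)).dvd_of_dvd_mul_right
          (show 2 ^ k ∣ 2 ^ 3 * 21945 by norm_num; exact h1)
      simpa using h2
    have hinj : Nat.card Qb = 8 := by
      let g : (Q : Subgroup G).subgroupOf C →* C ⧸ N := π.comp ((Q : Subgroup G).subgroupOf C).subtype
      have hg : Function.Injective g := by
        rw [← MonoidHom.ker_eq_bot_iff, eq_bot_iff]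
        intro x hx
        simp only [g, MonoidHom.mem_ker, MonoidHom.comp_apply, hπ, QuotientGroup.mk'_apply,
          QuotientGroup.eq_one_iff] at hx
        have h1 : orderOf (x : C) ∣ Nat.card N := Subgroup.orderOf_dvd_natCard _ hx
        have hxQ : ((x : C) : G) ∈ (Q : Subgroup G) := x.2
        have h2 : orderOf (x : C) ∣ 2 := by
          rw [orderOf_dvd_iff_pow_eq_one]
          exact Subtype.ext (by rw [Subgroup.coe_pow, sq, sq_eq_one hn Q _ hxQ, Subgroup.coe_one])
        refine mem_bot.2 (Subtype.ext (orderOf_eq_one_iff.1 (Nat.eq_one_of_dvd_coprimes ?_ h1 h2)))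
        exact Nat.coprime_two_right.2 Cores.odd_card_oddCore
      have hrange : g.range = Qb := by
        rw [hQb]
        simp only [g, MonoidHom.range_comp, range_subtype]
      rw [← hrange, ← Nat.card_congr (MonoidHom.ofInjective hg).toEquiv,
        Nat.card_congr (subgroupOfEquivOfLe hQC).toEquiv, card_sylow_two hn Q]
    have hQR : Qb = (R : Subgroup (C ⧸ N)) := eq_of_le_of_card_ge hR
      (by rw [hinj]; exact Nat.le_of_dvd (by norm_num) hRc)
    have hQK : Qb ≤ pCore 2 (C ⧸ N) := by
      refine fun x hx => hcl (mem_centralizer_iff.2 fun y hy => ?_)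
      have hy' : y ∈ Qb := hQR.ge (Cores.pCore_le_sylow R hy)
      obtain ⟨a', ha', rfl⟩ := hx
      obtain ⟨b', hb', rfl⟩ := hy'
      rw [← map_mul, ← map_mul]
      exact congrArg π (Subtype.ext (mul_comm_sylow hn Q hb' ha'))
    have hQKe : Qb = pCore 2 (C ⧸ N) :=
      le_antisymm hQK ((Cores.pCore_le_sylow R).trans hQR.ge)
    intro c hc
    rw [mem_normalizer_iff]
    have key : ∀ d : C, ∀ s ∈ (Q : Subgroup G), (d : G) * s * (d : G)⁻¹ ∈ (Q : Subgroup G) := by
      intro d s hs
      have hm : π ⟨s, hQC hs⟩ ∈ Qb := ⟨⟨s, hQC hs⟩, hs, rfl⟩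
      have hm2 : π (d * ⟨s, hQC hs⟩ * d⁻¹) ∈ Qb := by
        rw [map_mul, map_mul, map_inv, hQKe]
        exact Normal.conj_mem inferInstance _ (hQKe ▸ hm) _
      obtain ⟨s', hs', he⟩ := hm2
      obtain ⟨o, ho, heq⟩ : ∃ o ∈ N, s' * o = d * ⟨s, hQC hs⟩ * d⁻¹ :=
        ⟨s'⁻¹ * (d * ⟨s, hQC hs⟩ * d⁻¹), QuotientGroup.eq.1 (show (QuotientGroup.mk s' : C ⧸ N) = QuotientGroup.mk (d * ⟨s, hQC hs⟩ * d⁻¹) from he), mul_inv_cancel_left _ _⟩
      have heG : (s' : G) * (o : G) = (d : G) * s * (d : G)⁻¹ := congrArg Subtype.val heq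
      have hcomm : Commute (s' : G) (o : G) :=
        mem_centralizer_iff.1 (hcore ⟨o, ho, rfl⟩) s' hs'
      have h2 : ((s' : G) * (o : G)) ^ 2 = 1 := by
        rw [heG, conj_pow, sq, sq_eq_one hn Q s hs, mul_one, mul_inv_cancel]
      rw [hcomm.mul_pow, sq (s' : G), sq_eq_one hn Q (s' : G) hs', one_mul] at h2
      have ho1 : (o : G) = 1 := orderOf_eq_one_iff.1 (Nat.eq_one_of_dvd_coprimes
        (Nat.coprime_two_right.2 Cores.odd_card_oddCore)
        (by rw [Subgroup.orderOf_coe]; exact Subgroup.orderOf_dvd_natCard _ ho)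
        (orderOf_dvd_of_pow_eq_one h2))
      rw [← heG, ho1, mul_one]
      exact hs'
    intro s
    refine ⟨key ⟨c, hc⟩ s, fun h => ?_⟩
    have := key ⟨c, hc⟩⁻¹ _ h
    simpa [mul_assoc] using this
  -- so the Sylow subgroups meet trivially
  obtain ⟨S, htS⟩ := Agent.H36.exists_sylow_mem ht
  have hTI : ∀ Q : Sylow 2 G, Q ≠ S → (S : Subgroup G) ⊓ Q = ⊥ := by
    intro Q hQS
    rw [eq_bot_iff_forall]
    intro a ha
    by_contra ha1
    apply hQS
    have hao : orderOf a = 2 := orderOf_eq_prime (by rw [sq, sq_eq_one hn S a ha.1]) ha1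
    have hle : (Q : Subgroup G) ≤ normalizer ((S : Subgroup G) : Set G) := fun q hq =>
      hnorm S a ha.1 hao (mem_centralizer_singleton_iff.2 (mul_comm_sylow hn Q hq ha.2))
    have hsup := S.3 (S.2.to_sup_of_normal_left' Q.2 hle) le_sup_left
    exact Sylow.ext (eq_of_le_of_card_ge (le_sup_right.trans hsup.le)
      (by rw [card_sylow_two hn S, card_sylow_two hn Q]))
  have hmod := card_sylow_modEq_of_trivial_inf S hTI
  rw [card_sylow_two hn S] at hmod
  -- orbit counting in the Sylow normaliser
  set C := centralizer ({t} : Set G) with hC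
  set N := normalizer ((S : Subgroup G) : Set G) with hN
  have hCN : C ≤ N := hnorm S t htS ht
  have hidx : C.relIndex N = 7 := by
    let X := {x : (S : Subgroup G) // x ≠ 1}
    have hxt : t ≠ 1 := fun h => by rw [h, orderOf_one] at ht; omega
    let xt : X := ⟨⟨t, htS⟩, fun h => by
      have := congrArg Subtype.val h
      rw [show t = 1 from this, orderOf_one] at ht
      omega⟩
    have hX : Nat.card X = 7 := by
      have := Fintype.ofFinite (S : Subgroup G)
      have := Fintype.ofFinite X
      rw [Nat.card_eq_fintype_card, Fintype.card_subtype_compl, Fintype.card_subtype_eq,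
        ← Nat.card_eq_fintype_card, card_sylow_two hn S]
    rw [Subgroup.relIndex, Subgroup.index_eq_card, ← hX]
    let f : N ⧸ C.subgroupOf N → X := Quotient.lift
      (fun n : N => (⟨⟨(n : G) * t * (n : G)⁻¹, (mem_normalizer_iff.1 n.2 t).1 htS⟩, fun h => hxt
        (by simpa using congrArg Subtype.val h)⟩ : X))
      (fun m n h => by
        replace h := mem_subgroupOf.1 (QuotientGroup.leftRel_apply.1 h)
        refine Subtype.ext (Subtype.ext ?_)
        have h' := mem_centralizer_singleton_iff.1 h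
        simp only [Subgroup.coe_mul, InvMemClass.coe_inv] at h'
        show (m : G) * t * (m : G)⁻¹ = (n : G) * t * (n : G)⁻¹
        calc (m : G) * t * (m : G)⁻¹ = (m : G) * (t * ((m : G)⁻¹ * n)) * (n : G)⁻¹ := by group
          _ = (n : G) * t * (n : G)⁻¹ := by rw [← h']; group)
    refine Nat.card_congr (Equiv.ofBijective f ⟨?_, ?_⟩)
    · intro x y
      obtain ⟨m, rfl⟩ := QuotientGroup.mk_surjective x
      obtain ⟨n, rfl⟩ := QuotientGroup.mk_surjective y
      intro h
      have h' : (m : G) * t * (m : G)⁻¹ = (n : G) * t * (n : G)⁻¹ := congrArg (fun z : X => ((z.1 : (S : Subgroup G)) : G)) h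
      rw [QuotientGroup.eq, mem_subgroupOf, mem_centralizer_singleton_iff]
      simp only [Subgroup.coe_mul, InvMemClass.coe_inv]
      calc (m : G)⁻¹ * n * t = (m : G)⁻¹ * ((n : G) * t * (n : G)⁻¹) * n := by group
        _ = t * ((m : G)⁻¹ * n) := by rw [← h']; group
    · intro x
      obtain ⟨n, hn', he⟩ := exists_normalizer_conj hn S htS x.1.2
        (fun h => xt.2 (Subtype.ext h)) (fun h => x.2 (Subtype.ext h))
      exact ⟨QuotientGroup.mk ⟨n, hn'⟩, Subtype.ext (Subtype.ext he)⟩
  obtain ⟨m, hm⟩ : 8 ∣ Nat.card C := card_sylow_two hn S ▸ card_dvd_of_le (fun s hs =>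
    mem_centralizer_singleton_iff.2 (mul_comm_sylow hn S hs htS))
  have hT : Nat.card (Sylow 2 G) * m = 3135 := by
    have h1 := card_mul_index N
    rw [show N.index = Nat.card (Sylow 2 G) from S.card_eq_index_normalizer.symm, hn] at h1
    have h2 : Nat.card C * C.relIndex N = Nat.card N := by
      rw [← Nat.card_congr (subgroupOfEquivOfLe hCN).toEquiv]
      exact card_mul_index _
    rw [← h2, hidx, hm] at h1
    refine Nat.eq_of_mul_eq_mul_left (show 0 < 56 by norm_num) ?_
    calc 56 * (Nat.card (Sylow 2 G) * m) = 8 * m * 7 * Nat.card (Sylow 2 G) := by ring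
      _ = 56 * 3135 := by rw [h1]
  have hm3 : m ∈ Nat.divisors 3135 := Nat.mem_divisors.2 ⟨Dvd.intro_left _ hT, by norm_num⟩
  have hm0 : 0 < m := Nat.pos_of_mem_divisors hm3
  have h5 : 5 ∣ m := by
    refine solvable_arith m hm3 ?_ ?_
    · rw [← hT, Nat.mul_div_cancel _ hm0]
      exact hmod
    · intro h
      rw [h] at hT
      have hone : Nat.card (Sylow 2 G) = 1 := by omega
      have htop : N = ⊤ := index_eq_one.1 (S.card_eq_index_normalizer.symm.trans hone)
      rcases (normalizer_eq_top_iff.1 htop).eq_bot_or_eq_top with h' | h'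
      · have := card_sylow_two hn S
        rw [h', card_bot] at this
        omega
      · have := card_sylow_two hn S
        rw [h', card_top, hn] at this
        omega
  -- an element of order five centralising the Sylow subgroup
  haveI : Fact (Nat.Prime 5) := ⟨by norm_num⟩
  obtain ⟨w, hw⟩ := exists_prime_orderOf_dvd_card' (G := C) 5 (hm ▸ dvd_mul_of_dvd_right h5 8)
  have hw' : orderOf (w : G) = 5 := by rw [Subgroup.orderOf_coe, hw]
  refine centralised_by_eight hn (q := 5) (by norm_num) (by norm_num) (by norm_num)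
    (by rw [hn]; norm_num) hw' (H := (S : Subgroup G)) ?_ (card_sylow_two hn S)
  let F := (S : Subgroup G) ⊓ centralizer ({(w : G)} : Set G)
  let A := zpowers (w : G)
  have hAN : A ≤ N := zpowers_le.2 (hCN w.2)
  letI : MulAction A (S : Subgroup G) :=
    { smul := fun a s => ⟨(a : G) * (s : G) * (a : G)⁻¹, (mem_normalizer_iff.1 (hAN a.2) _).1 s.2⟩
      one_smul := fun s => Subtype.ext (show (1 : G) * (s : G) * (1 : G)⁻¹ = s by group)
      mul_smul := fun a b s => Subtype.ext (show ((a : G) * b) * (s : G) * ((a : G) * b)⁻¹ =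
        (a : G) * ((b : G) * (s : G) * (b : G)⁻¹) * (a : G)⁻¹ by group) }
  have hfix := (IsPGroup.of_card (p := 5) (n := 1) (show Nat.card A = 5 ^ 1 by
    rw [Nat.card_zpowers, hw', pow_one])).card_modEq_card_fixedPoints (S : Subgroup G)
  have hcard : Nat.card (MulAction.fixedPoints A (S : Subgroup G)) = Nat.card F := by
    refine Nat.card_congr
      { toFun := fun x => ⟨(x.1 : G), x.1.2, mem_centralizer_singleton_iff.2 ?_⟩
        invFun := fun x => ⟨⟨x.1, x.2.1⟩, fun a => Subtype.ext (mul_inv_eq_iff_eq_mul.2 ?_)⟩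
        left_inv := fun x => rfl
        right_inv := fun x => rfl }
    · have := mul_inv_eq_iff_eq_mul.1 (congrArg Subtype.val (x.2 ⟨w, mem_zpowers _⟩))
      exact this.symm
    · obtain ⟨i, hi⟩ := a.2
      rw [show (a : G) = (w : G) ^ i from hi.symm]
      exact (Commute.zpow_left (mem_centralizer_singleton_iff.1 x.2.2).symm i).eq
  rw [card_sylow_two hn S, hcard] at hfix
  have hFd : Nat.card F ∣ 8 := card_sylow_two hn S ▸ card_dvd_of_le inf_le_left
  have hF8 : Nat.card F = 8 := by
    have hle := Nat.le_of_dvd (by norm_num) hFd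
    have hpos : 0 < Nat.card F := Nat.card_pos
    unfold Nat.ModEq at hfix
    interval_cases hF : Nat.card F <;> omega
  have hFS : F = (S : Subgroup G) := eq_of_le_of_card_ge inf_le_left
    (by rw [hF8, card_sylow_two hn S])
  intro s hs
  exact (mem_centralizer_singleton_iff.1 (hFS.ge hs).2).symm

end Cfsg.Agent.Coprime.J1.ByOrder
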