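import Cfsg.Agent.PGroups.TwoGroups
import Cfsg.Agent.H30.ThreeDegrees.Basic
import Mathlib.GroupTheory.Transfer
import Mathlib.GroupTheory.SpecificGroups.ZGroup

/-!
# Tools for the groups of order 175560

Abelian Sylow subgroups of perfect groups, groups of order eight, Sylow subgroups meeting trivially.
-/

set_option autoImplicit false
set_option linter.style.haveILetI false

namespace Cfsg.Agent.Coprime.J1.ByOrder

open Subgroup

variable {G : Type*} [Group G] [Finite G]

/-- An element of an abelian Sylow subgroup of a perfect group that is central in the Sylow normaliser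
is trivial. -/
theorem eq_one_of_fixed (hperf : commutator G = ⊤) {p : ℕ} [Fact p.Prime] (P : Sylow p G)
    (hab : ∀ a ∈ (P : Subgroup G), ∀ b ∈ (P : Subgroup G), a * b = b * a) {z : G}
    (hz : z ∈ (P : Subgroup G))
    (hN : ∀ n ∈ normalizer ((P : Subgroup G) : Set G), n * z = z * n) : z = 1 := by
  classical
  letI : CommGroup (P : Subgroup G) :=
    { (inferInstance : Group (P : Subgroup G)) with
      mul_comm := fun a b => Subtype.ext (hab a a.2 b b.2) }
  have : IsMulCommutative (P : Subgroup G) := ⟨⟨mul_comm⟩⟩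
  have key : ∀ (k : ℕ) (g₀ : G), g₀⁻¹ * z ^ k * g₀ ∈ (P : Subgroup G) →
      g₀⁻¹ * z ^ k * g₀ = z ^ k := by
    intro k g₀ h
    obtain ⟨n, hn, he⟩ := P.conj_eq_normalizer_conj_of_mem (z ^ k) g₀ (pow_mem hz k) h
    rw [he, mul_assoc, ← Commute.eq (Commute.pow_right (hN n hn) k), inv_mul_cancel_left]
  have h := MonoidHom.transfer_eq_pow (MonoidHom.id (P : Subgroup G)) z key
  have h1 : MonoidHom.transfer (MonoidHom.id (P : Subgroup G)) z = 1 := by
    have hle : commutator G ≤ (MonoidHom.transfer (MonoidHom.id (P : Subgroup G))).ker :=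
      Abelianization.commutator_subset_ker _
    exact MonoidHom.mem_ker.1 (hle (hperf.symm ▸ mem_top z))
  rw [h1] at h
  have hpow : z ^ (P : Subgroup G).index = 1 := (congrArg Subtype.val h).symm
  obtain ⟨j, hj⟩ := P.2 ⟨z, hz⟩
  have hpz : z ^ p ^ j = 1 := congrArg Subtype.val hj
  exact orderOf_eq_one_iff.1 (Nat.eq_one_of_dvd_coprimes
    (Nat.Coprime.pow_left j ((Fact.out : p.Prime).coprime_iff_not_dvd.2 P.not_dvd_index))
    (orderOf_dvd_of_pow_eq_one hpz) (orderOf_dvd_of_pow_eq_one hpow))

/-- In a perfect group a Sylow subgroup of prime order is not centralised by its normaliser. -/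
theorem exists_not_commute (hperf : commutator G = ⊤) {p : ℕ} [hp : Fact p.Prime] (P : Sylow p G)
    (hP : Nat.card (P : Subgroup G) = p) :
    ¬ normalizer ((P : Subgroup G) : Set G) ≤ centralizer ((P : Subgroup G) : Set G) := by
  intro hle
  have : IsCyclic (P : Subgroup G) := isCyclic_of_prime_card hP
  letI : CommGroup (P : Subgroup G) := IsCyclic.commGroup
  have : Nontrivial (P : Subgroup G) := Finite.one_lt_card_iff_nontrivial.1 (by
    rw [hP]; exact hp.out.one_lt)
  obtain ⟨⟨z, hz⟩, hz1⟩ := exists_ne (1 : (P : Subgroup G))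
  exact hz1 (Subtype.ext (eq_one_of_fixed hperf P
    (fun a ha b hb => congrArg Subtype.val (mul_comm (⟨a, ha⟩ : (P : Subgroup G)) ⟨b, hb⟩)) hz
    fun n hn => (mem_centralizer_iff.1 (hle hn) z hz).symm))

/-- A perfect group of squarefree order is trivial. -/
theorem card_eq_one_of_squarefree (hperf : commutator G = ⊤) (hsq : Squarefree (Nat.card G)) :
    Nat.card G = 1 := by
  have : IsZGroup G := IsZGroup.of_squarefree hsq
  obtain ⟨n, hn⟩ := (inferInstance : Group.IsSolvable G).solvable
  have htop : ∀ k, derivedSeries G k = ⊤ := by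
    intro k
    induction k with
    | zero => rfl
    | succ k ih => rw [derivedSeries_succ, ih, ← commutator_def, hperf]
  rw [htop] at hn
  exact Nat.card_eq_one_iff_unique.2
    ⟨Subgroup.subsingleton_iff.1 (subsingleton_iff_bot_eq_top.1 hn.symm), ⟨1⟩⟩

omit [Finite G] in
/-- A group all of whose squares are trivial is commutative. -/
theorem comm_of_sq (h : ∀ x : G, x * x = 1) (a b : G) : a * b = b * a := by
  have hi : ∀ x : G, x⁻¹ = x := fun x => inv_eq_of_mul_eq_one_left (h x)
  calc a * b = (a * b)⁻¹ := (hi _).symm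
    _ = b * a := by rw [mul_inv_rev, hi, hi]

/-- A group of order eight of exponent greater than two is abelian with a characteristic involution,
dihedral, or quaternion. -/
theorem order_eight (hcard : Nat.card G = 8) (hsq : ¬ ∀ x : G, x * x = 1) :
    ((∀ a b : G, a * b = b * a) ∧ ∃ z : G, z ≠ 1 ∧ ∀ e : G ≃* G, e z = z) ∨
    (∃ c y : G, orderOf c = 4 ∧ orderOf y = 2 ∧ y * c * y⁻¹ = c⁻¹ ∧
      closure ({c, y} : Set G) = ⊤ ∧ Nonempty (G ≃* DihedralGroup 4)) ∨
    Nonempty (G ≃* QuaternionGroup 2) := by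
  push Not at hsq
  obtain ⟨x, hx⟩ := hsq
  have : Fact (Nat.Prime 2) := ⟨Nat.prime_two⟩
  obtain ⟨c, hc⟩ : ∃ c : G, orderOf c = 4 := by
    have h8 : orderOf x ∣ 2 ^ 3 := by
      rw [show (2 : ℕ) ^ 3 = Nat.card G by rw [hcard]; norm_num]
      exact orderOf_dvd_natCard x
    obtain ⟨k, hk, hkx⟩ := (Nat.dvd_prime_pow Nat.prime_two).1 h8
    interval_cases k
    · rw [pow_zero] at hkx
      exact absurd (by rw [orderOf_eq_one_iff.1 hkx, mul_one]) hx
    · refine absurd ?_ hx
      rw [← sq]
      exact orderOf_dvd_iff_pow_eq_one.1 (by rw [hkx]; norm_num)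
    · exact ⟨x, hkx⟩
    · exact ⟨x ^ 2, by rw [orderOf_pow, hkx]; norm_num⟩
  have hidx : (zpowers c).index = 2 := by
    have := card_mul_index (zpowers c)
    rw [Nat.card_zpowers, hc, hcard] at this
    omega
  have hsqmem : ∀ g : G, g * g ∈ zpowers c := fun g =>
    mul_self_mem_of_index_two hidx g
  have hc4 : c ^ 4 = 1 := hc ▸ pow_orderOf_eq_one c
  have hc2 : c ^ 2 ≠ 1 := fun h => by
    have := orderOf_le_of_pow_eq_one (by norm_num) h
    omega
  -- elements of the cyclic subgroup
  have hcyc : ∀ g ∈ zpowers c, g = 1 ∨ g = c ∨ g = c ^ 2 ∨ g = c ^ 3 := by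
    intro g hg
    classical
    obtain ⟨i, hi, rfl⟩ := Finset.mem_image.1
      ((isOfFinOrder_of_finite c).mem_zpowers_iff_mem_range_orderOf.1 hg)
    rw [Finset.mem_range, hc] at hi
    interval_cases i <;> simp
  by_cases hab : ∀ a b : G, a * b = b * a
  · refine Or.inl ⟨hab, c ^ 2, hc2, fun e => ?_⟩
    rw [map_pow]
    have he : orderOf (e c) = 4 := by rw [MulEquiv.orderOf_eq, hc]
    have h4 : (e c) ^ 4 = 1 := he ▸ pow_orderOf_eq_one _
    have hne : (e c) ^ 2 ≠ 1 := fun h => by
      have := orderOf_le_of_pow_eq_one (by norm_num) h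
      omega
    have hh : ((e c) ^ 2) ^ 2 = 1 := by rw [← pow_mul]; exact h4
    rcases hcyc _ (sq (e c) ▸ hsqmem (e c)) with h | h | h | h
    · exact absurd h hne
    · exact absurd (by rw [h] at hh; exact hh) hc2
    · exact h
    · exfalso
      rw [h, ← pow_mul] at hh
      exact hc2 (by rw [show 3 * 2 = 4 + 2 from rfl, pow_add, hc4, one_mul] at hh; exact hh)
  right
  obtain ⟨y, hy⟩ : ∃ y, y ∉ zpowers c := by
    by_contra! h
    exact hab fun a b => by
      obtain ⟨i, rfl⟩ := h a
      obtain ⟨j, rfl⟩ := h b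
      exact ((Commute.refl c).zpow_zpow i j).eq
  have hgen : closure ({c, y} : Set G) = ⊤ := by
    have hle : zpowers c ≤ closure ({c, y} : Set G) :=
      zpowers_le.2 (subset_closure (Or.inl rfl))
    rw [eq_top_iff]
    intro g _
    by_cases hg : g ∈ zpowers c
    · exact hle hg
    have : g * y ∈ zpowers c := (mul_mem_iff_of_index_two hidx).2 (iff_of_false hg hy)
    simpa using mul_mem (hle this) (inv_mem (subset_closure (Or.inr rfl : y ∈ ({c, y} : Set G))))
  have : (zpowers c).Normal := normal_of_index_eq_two hidx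
  have hconj : y * c * y⁻¹ = c⁻¹ := by
    have hm : y * c * y⁻¹ ∈ zpowers c := this.conj_mem c (mem_zpowers c) y
    have ho : orderOf (y * c * y⁻¹) = 4 :=
      (SemiconjBy.orderOf_eq y (by rw [SemiconjBy, inv_mul_cancel_right])).symm.trans hc
    have hcomm : y * c * y⁻¹ ≠ c := fun h => by
      apply hab
      have hyc : Commute y c := mul_inv_eq_iff_eq_mul.1 h
      intro a b
      have hsub : closure ({c, y} : Set G) ≤ centralizer ({c, y} : Set G) := by
        rw [closure_le]
        rintro g (rfl | rfl) <;> rw [SetLike.mem_coe, mem_centralizer_iff] <;>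
          rintro k (rfl | rfl)
        · rfl
        · exact hyc.eq
        · exact hyc.eq.symm
        · rfl
      have ha : a ∈ centralizer ({c, y} : Set G) := hsub (hgen ▸ mem_top a)
      have hle : closure ({c, y} : Set G) ≤ centralizer ({a} : Set G) := by
        rw [closure_le]
        intro k hk
        exact mem_centralizer_singleton_iff.2 (mem_centralizer_iff.1 ha k hk)
      exact (mem_centralizer_singleton_iff.1 (hle (hgen ▸ mem_top b))).symm
    rcases hcyc _ hm with h | h | h | h
    · rw [h, orderOf_one] at ho; omega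
    · exact absurd h hcomm
    · rw [h, orderOf_pow, hc] at ho; norm_num at ho
    · rw [h]
      exact eq_inv_of_mul_eq_one_left (by rw [← pow_succ, hc4])
  have hy2 : y ^ 2 = 1 ∨ y ^ 2 = c ^ 2 := by
    have hfix : y * y ^ 2 * y⁻¹ = y ^ 2 := by rw [← pow_succ', pow_succ, mul_inv_cancel_right]
    rcases hcyc _ (sq y ▸ hsqmem y) with h | h | h | h
    · exact Or.inl h
    · exfalso
      rw [h, hconj] at hfix
      exact hc2 (by rw [sq]; nth_rw 1 [← hfix]; exact inv_mul_cancel c)
    · exact Or.inr h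
    · exfalso
      rw [h, ← conj_pow, hconj, inv_pow] at hfix
      exact hc2 (by
        have : c ^ 3 * c ^ 3 = 1 := by nth_rw 1 [← hfix]; exact inv_mul_cancel _
        rw [← pow_add, show 3 + 3 = 4 + 2 from rfl, pow_add, hc4, one_mul] at this
        exact this)
  rcases hy2 with h | h
  · refine Or.inl ⟨c, y, hc, orderOf_eq_prime h (fun h1 => hy (h1 ▸ one_mem _)), hconj, hgen, ?_⟩
    exact PGroups.nonempty_mulEquiv_dihedral hc hy h hconj (by rw [hcard])
  · exact Or.inr (PGroups.nonempty_mulEquiv_quaternion (n := 2) hc hy h hconj (by rw [hcard]))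

/-- Sylow subgroups meeting trivially: their number is congruent to one modulo their order. -/
theorem card_sylow_modEq_of_trivial_inf {p : ℕ} [Fact p.Prime] (P : Sylow p G)
    (h : ∀ Q : Sylow p G, Q ≠ P → (P : Subgroup G) ⊓ Q = ⊥) :
    Nat.card (Sylow p G) ≡ 1 [MOD Nat.card (P : Subgroup G)] := by
  classical
  have := Fintype.ofFinite (Sylow p G)
  let S : Subgroup G := P
  let α := {Q : Sylow p G // Q ≠ P}
  have hfix : ∀ s : S, (s : G) • P = P := fun s =>
    Sylow.smul_eq_iff_mem_normalizer.2 (le_normalizer s.2)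
  letI : MulAction S α :=
    { smul := fun s Q => ⟨(s : G) • Q.1, fun he => Q.2 (by
        rw [← inv_smul_smul (s : G) Q.1, he, inv_smul_eq_iff, hfix s])⟩
      one_smul := fun Q => Subtype.ext (one_smul G Q.1)
      mul_smul := fun s s' Q => Subtype.ext (mul_smul (s : G) (s' : G) Q.1) }
  have hfree : ∀ Q : α, MulAction.stabilizer S Q = ⊥ := by
    intro Q
    rw [eq_bot_iff]
    intro s hs
    have hn : (s : G) ∈ normalizer ((Q.1 : Subgroup G) : Set G) :=
      Sylow.smul_eq_iff_mem_normalizer.1 (congrArg Subtype.val (MulAction.mem_stabilizer_iff.1 hs))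
    obtain ⟨j, hj⟩ := P.2 ⟨s, s.2⟩
    have hpz : IsPGroup p (zpowers (s : G)) := by
      rintro ⟨g, k, rfl⟩
      refine ⟨j, Subtype.ext ?_⟩
      show ((s : G) ^ k) ^ p ^ j = 1
      rw [← zpow_natCast, ← zpow_mul, mul_comm, zpow_mul, zpow_natCast,
        show (s : G) ^ p ^ j = 1 from congrArg Subtype.val hj, one_zpow]
    have hsQ : (s : G) ∈ (Q.1 : Subgroup G) := by
      have hle := Q.1.3 (Q.1.2.to_sup_of_normal_left' hpz (zpowers_le.2 hn)) le_sup_left
      exact hle.le (mem_sup_right (mem_zpowers _))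
    have : (s : G) ∈ ((P : Subgroup G) ⊓ Q.1 : Subgroup G) := ⟨s.2, hsQ⟩
    rw [h Q.1 Q.2, mem_bot] at this
    exact mem_bot.2 (Subtype.ext this)
  have horb : ∀ Q : α, Nat.card (MulAction.orbit S Q) = Nat.card S := fun Q => by
    rw [Nat.card_congr (MulAction.orbitEquivQuotientStabilizer S Q), hfree Q,
      ← Subgroup.index_eq_card, index_bot]
  have hdvd : Nat.card S ∣ Nat.card α := by
    have := Fintype.ofFinite (MulAction.orbitRel.Quotient S α)
    rw [Nat.card_congr (MulAction.selfEquivSigmaOrbits S α), Nat.card_sigma]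
    exact Finset.dvd_sum fun ω _ => dvd_of_eq (horb _).symm
  have hn : Nat.card (Sylow p G) = Nat.card α + 1 := by
    rw [Nat.card_congr (Equiv.optionSubtypeNe P).symm, Finite.card_option]
  rw [hn]
  exact ((Nat.modEq_zero_iff_dvd.2 hdvd).add_right 1)

end Cfsg.Agent.Coprime.J1.ByOrder
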