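import Cfsg.Agent.S4274
import Cfsg.Agent.Coprime.J1.ByOrder.Tools

/-!
# Sylow data of a simple group of order 175560

`exists_dat` is the S4274 screening lemma, extended to the prime three.
-/

set_option autoImplicit false
set_option linter.unusedSectionVars false
set_option linter.style.haveILetI false

namespace Cfsg.Agent.Coprime.J1.ByOrder

open Subgroup Agent.H36
open scoped commutatorElement
open Cfsg.Agent.S4274 (Dat opts card_centralizer_sylow_congr card_sylow_index)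

variable {G : Type*} [Group G] [Finite G] [IsSimpleGroup G]

theorem exists_dat (hG : ¬ IsMulCommutative G) {k : ℕ} (hk : k ∣ 9240)
    (hn : Nat.card G = 19 * k) (q : ℕ) [hq : Fact q.Prime] (hq' : q ∈ [19, 11, 7, 5, 3]) :
    ∃ a ∈ opts k q, Dat G q a := by
  by_cases hqd : q ∣ Nat.card G
  swap
  · refine ⟨(0, 1), ?_, Or.inr ⟨hqd, rfl⟩⟩
    rw [opts, if_pos (fun h => hqd (hn ▸ Nat.dvd_of_mod_eq_zero h))]
    exact List.mem_singleton.2 rfl
  haveI : Fact (Nat.Prime 19) := ⟨by norm_num⟩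
  have h175 : 19 * k ∣ 175560 := (mul_dvd_mul_left 19 hk : 19 * k ∣ 19 * 9240)
  obtain ⟨M, hM⟩ : q ∣ 19 * k := hn ▸ hqd
  have hqM : ¬ q ∣ M := by
    intro h
    have h2 : q * q ∣ 175560 := (mul_dvd_mul_left q h).trans (hM ▸ h175)
    simp only [List.mem_cons, List.not_mem_nil, or_false] at hq'
    rcases hq' with rfl | rfl | rfl | rfl | rfl <;> norm_num at h2
  have hnp : ¬ (Nat.card G).Prime := fun h => hG <| by
    haveI := Fact.mk h
    haveI : IsCyclic G := isCyclic_of_prime_card (p := Nat.card G) rfl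
    exact ⟨⟨fun a b => (IsCyclic.commGroup (α := G)).mul_comm a b⟩⟩
  obtain ⟨P⟩ := Sylow.nonempty (p := q) (G := G)
  have hP : Nat.card (P : Subgroup G) = q := by
    simpa using card_sylow_eq (a := 1) (m := M) (hn.trans hM) P (by simp) hqM
  set n := Nat.card (Sylow q G) with hndef
  obtain ⟨hnd, hnmod⟩ := card_sylow_dvd (p := q) (a := 1) (m := M) (hn.trans hM) (by simp) hqM
  obtain ⟨N, hN⟩ := hnd
  have hNc : Nat.card (normalizer ((P : Subgroup G) : Set G)) = q * N :=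
    card_normalizer_of_card_sylow P (hn.trans hM) rfl (by rw [hN]; ring)
  obtain ⟨r, c, hr1, hrd, hrc, hC⟩ := exists_relIndex_centralizer hG P hP hNc
  have hn1 : n ≠ 1 := card_sylow_ne_one hqd fun i hi => hnp (by
    have h19 : 19 ∣ q ^ i := hi ▸ hn ▸ dvd_mul_right 19 k
    have hq19 : q = 19 := ((Nat.prime_dvd_prime_iff_eq (by norm_num) hq.out).1
      ((Nat.prime_iff.1 (by norm_num : Nat.Prime 19)).dvd_of_dvd_pow h19)).symm
    subst hq19
    have hi2 : i ≤ 1 := by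
      by_contra hlt
      apply hqM
      obtain ⟨j, rfl⟩ : ∃ j, i = j + 2 := ⟨i - 2, by omega⟩
      rw [hn, hM] at hi
      exact ⟨19 ^ j, Nat.eq_of_mul_eq_mul_left hq.out.pos (hi.trans (by ring))⟩
    interval_cases i
    · exfalso
      have := (Nat.le_of_dvd Nat.card_pos hqd)
      omega
    · rw [hi, pow_one]; exact hq.out)
  have h19n : 19 ≤ n := by
    have hne : normalizer ((P : Subgroup G) : Set G) ≠ ⊤ := fun h => hn1 (by
      rw [hndef, card_sylow_index P, h, index_top])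
    have h := card_dvd_factorial hne
    rw [← card_sylow_index P, hn] at h
    exact (Nat.Prime.dvd_factorial (by norm_num)).1 ((dvd_mul_right 19 k).trans h)
  have hMk : 19 * k / q = M := by rw [hM, Nat.mul_div_cancel_left _ hq.out.pos]
  have hMnr : M = n * r * c := by rw [hN, ← hrc]; ring
  have hr0 : r < q := by
    have := Nat.le_of_dvd (by have := hq.out.two_le; omega) hrd
    have := hq.out.two_le
    omega
  refine ⟨(n, c), ?_, Or.inl ⟨rfl, fun Q => ⟨(card_sylow_congr Q P).trans hP,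
    (card_centralizer_sylow_congr Q P).trans hC⟩⟩⟩
  rw [opts, if_neg (not_not.2 (Nat.mod_eq_zero_of_dvd (Dvd.intro M hM.symm)))]
  simp only [List.mem_filter, List.mem_flatMap, List.mem_map, List.mem_range,
    decide_eq_true_eq, hMk]
  refine ⟨⟨n, ⟨?_, hnmod, h19n, Nat.mod_eq_zero_of_dvd ⟨N, hN⟩⟩, r,
    ⟨hr0, hr1, Nat.mod_eq_zero_of_dvd hrd, ?_⟩, ?_⟩, ?_⟩
  · refine mem_divProds _ (by decide) n ?_
    exact (Dvd.intro N hN.symm).trans ((Dvd.intro_left q hM.symm).trans h175)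
  · exact Nat.mod_eq_zero_of_dvd ⟨c, hMnr⟩
  · rw [hMnr, Nat.mul_div_cancel_left _
      (Nat.mul_pos (by omega) (by omega))]
  · rw [List.all_eq_true]
    intro l hl
    simp only [decide_eq_true_eq]
    refine or_iff_not_imp_left.2 fun hlc => ?_
    rw [not_not] at hlc
    have hlp : l.Prime := by fin_cases hl <;> norm_num
    haveI := Fact.mk hlp
    have hlc : l ∣ c := Nat.dvd_of_mod_eq_zero hlc
    have hlq : l ≠ q := by
      rintro rfl
      exact hqM (hlc.trans (Dvd.intro_left _ hMnr.symm))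
    obtain ⟨v, hv⟩ := exists_prime_orderOf_dvd_card'
      (G := centralizer ((P : Subgroup G) : Set G)) l (hC ▸ dvd_mul_of_dvd_right hlc q)
    have hcard : Nat.card (zpowers (v : G)) = l := by rw [Nat.card_zpowers, orderOf_coe, hv]
    have hnm : n = 1 + (n - 1) / q * q := by
      have h2 := Nat.div_add_mod n q
      rw [hnmod] at h2
      have h3 : (n - 1) / q = n / q := by
        rw [← h2, Nat.add_sub_cancel, Nat.mul_div_cancel_left _ hq.out.pos, h2]
      rw [h3, mul_comm]; omega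
    have hm0 : 0 < (n - 1) / q := Nat.pos_of_ne_zero fun h => by rw [h] at hnm; omega
    have h := card_dvd_factorial_orbits P hP _ hnm hm0 _ (zpowers_le.2 v.2)
      (by rw [hcard]; exact (Nat.coprime_primes hlp hq.out).2 hlq)
    rw [hcard] at h
    exact hlp.dvd_factorial.1 h


theorem not_comm (hn : Nat.card G = 175560) : ¬ IsMulCommutative G := fun h => by
  have hp : (Nat.card G).Prime := by
    letI : CommGroup G := { (inferInstance : Group G) with mul_comm := h.1.1 }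
    exact IsSimpleGroup.prime_card
  rw [hn] at hp
  exact absurd hp (by norm_num)

theorem perfect (hn : Nat.card G = 175560) : commutator G = ⊤ :=
  ((inferInstance : (commutator G).Normal).eq_bot_or_eq_top).resolve_left fun h => not_comm hn
    ⟨⟨fun a b => by
      have hm : ⁅a, b⁆ ∈ commutator G := commutator_mem_commutator (mem_top a) (mem_top b)
      rw [h, mem_bot] at hm
      exact commutatorElement_eq_one_iff_mul_comm.1 hm⟩⟩

/-- A subgroup centralising an element of prime order `q` has `q`-free order dividing the cofactor. -/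
theorem dvd_cofactor {q : ℕ} [hq : Fact q.Prime] (hqd : q ∣ Nat.card G) {a : ℕ × ℕ} (ha : Dat G q a)
    {u : G} (hu : orderOf u = q) {H : Subgroup G} (hH : ∀ h ∈ H, u * h = h * u)
    (hc : (Nat.card H).Coprime q) : Nat.card H ∣ a.2 := by
  obtain ⟨P, hP⟩ := exists_sylow_mem hu
  rcases ha with ⟨-, ha⟩ | ⟨ha, -⟩
  · obtain ⟨hPc, hC⟩ := ha P
    have hle : H ≤ centralizer ((P : Subgroup G) : Set G) := fun h hh =>
      S4274.mem_centralizer_of_generator hPc hu hP (hH h hh)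
    exact hc.dvd_of_dvd_mul_left (hC ▸ card_dvd_of_le hle)
  · exact absurd hqd ha

theorem dat_comm_iff {p q : ℕ} [Fact p.Prime] [Fact q.Prime] (hpq : p ≠ q) {a b : ℕ × ℕ}
    (ha : Dat G p a) (hb : Dat G q b) : q ∣ a.2 ↔ p ∣ b.2 :=
  ⟨ha.commute hpq hb, hb.commute hpq.symm ha⟩

/-- The data of the five odd primes and their pairwise relations. -/
structure Profile (G : Type*) [Group G] where
  a : ℕ × ℕ
  b : ℕ × ℕ
  c : ℕ × ℕ
  d : ℕ × ℕ
  e : ℕ × ℕ
  ha : a ∈ opts 9240 19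
  hb : b ∈ opts 9240 11
  hc : c ∈ opts 9240 7
  hd : d ∈ opts 9240 5
  he : e ∈ opts 9240 3
  da : Dat G 19 a
  db : Dat G 11 b
  dc : Dat G 7 c
  dd : Dat G 5 d
  de : Dat G 3 e

theorem exists_profile (hn : Nat.card G = 175560) : Nonempty (Profile G) := by
  have hn' : Nat.card G = 19 * 9240 := hn
  have hG := not_comm hn
  haveI : Fact (Nat.Prime 19) := ⟨by norm_num⟩
  haveI : Fact (Nat.Prime 11) := ⟨by norm_num⟩
  haveI : Fact (Nat.Prime 7) := ⟨by norm_num⟩
  haveI : Fact (Nat.Prime 5) := ⟨by norm_num⟩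
  haveI : Fact (Nat.Prime 3) := ⟨by norm_num⟩
  obtain ⟨a, ha, da⟩ := exists_dat hG dvd_rfl hn' 19 (by simp)
  obtain ⟨b, hb, db⟩ := exists_dat hG dvd_rfl hn' 11 (by simp)
  obtain ⟨c, hc, dc⟩ := exists_dat hG dvd_rfl hn' 7 (by simp)
  obtain ⟨d, hd, dd⟩ := exists_dat hG dvd_rfl hn' 5 (by simp)
  obtain ⟨e, he, de⟩ := exists_dat hG dvd_rfl hn' 3 (by simp)
  exact ⟨⟨a, b, c, d, e, ha, hb, hc, hd, he, da, db, dc, dd, de⟩⟩

theorem opts_eight :
    (∀ a ∈ opts 9240 19, ¬ 4 ∣ a.2 ∧ ¬ 5 ∣ a.2) ∧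
    (∀ b ∈ opts 9240 11, ¬ 7 ∣ b.2 ∧ ¬ 120 ∣ b.2 ∧ (3 ∣ b.2 → 4 ∣ b.2)) ∧
    (∀ c ∈ opts 9240 7, ¬ 8 ∣ c.2 ∧ (4 ∣ c.2 → 11 ∣ c.2)) ∧
    (∀ d ∈ opts 9240 5, ¬ 8 ∣ d.2 ∧ (4 ∣ d.2 → 19 ∣ d.2) ∧ (2 ∣ d.2 → 3 ∣ d.2 ∨ 19 ∣ d.2)) ∧
    (∀ e ∈ opts 9240 3, ¬ 8 ∣ e.2 ∧ (5 ∣ e.2 → 4 ∣ e.2 → 11 ∣ e.2)) := by
  decide +kernel

theorem centralised_by_four (hn : Nat.card G = 175560) {q : ℕ} (hq : q ∈ [19, 7, 5])
    {u : G} (hu : orderOf u = q) {H : Subgroup G} (hH : ∀ h ∈ H, u * h = h * u)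
    (h4 : Nat.card H = 4) : False := by
  obtain ⟨D⟩ := exists_profile hn
  haveI : Fact (Nat.Prime 19) := ⟨by norm_num⟩
  haveI : Fact (Nat.Prime 11) := ⟨by norm_num⟩
  haveI : Fact (Nat.Prime 7) := ⟨by norm_num⟩
  haveI : Fact (Nat.Prime 5) := ⟨by norm_num⟩
  obtain ⟨oa, ob, oc, od, oe⟩ := opts_eight
  simp only [List.mem_cons, List.not_mem_nil, or_false] at hq
  rcases hq with rfl | rfl | rfl
  · exact (oa _ D.ha).1 (h4 ▸ dvd_cofactor (by rw [hn]; norm_num) D.da hu hH (by rw [h4]; norm_num))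
  · have h := h4 ▸ dvd_cofactor (by rw [hn]; norm_num) D.dc hu hH (by rw [h4]; norm_num)
    exact (ob _ D.hb).1 ((dat_comm_iff (by norm_num) D.dc D.db).1 ((oc _ D.hc).2 h))
  · have h := h4 ▸ dvd_cofactor (by rw [hn]; norm_num) D.dd hu hH (by rw [h4]; norm_num)
    exact (oa _ D.ha).2 ((dat_comm_iff (by norm_num) D.dd D.da).1 ((od _ D.hd).2.1 h))

theorem centralised_by_eight (hn : Nat.card G = 175560) {q : ℕ} (hq : q.Prime) (hq2 : q ≠ 2)
    (hq11 : q ≠ 11) (hqd : q ∣ Nat.card G) {u : G} (hu : orderOf u = q) {H : Subgroup G}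
    (hH : ∀ h ∈ H, u * h = h * u) (h8 : Nat.card H = 8) : False := by
  obtain ⟨D⟩ := exists_profile hn
  haveI := Fact.mk hq
  have hcop : (Nat.card H).Coprime q := by
    rw [h8, show (8 : ℕ) = 2 ^ 3 by norm_num]
    exact Nat.Coprime.pow_left 3 ((Nat.coprime_primes Nat.prime_two hq).2 hq2.symm)
  have hmem : q ∈ Nat.primeFactorsList 175560 :=
    (Nat.mem_primeFactorsList (by norm_num)).2 ⟨hq, hn ▸ hqd⟩
  obtain ⟨oa, -, oc, od, oe⟩ := opts_eight
  have hL : Nat.primeFactorsList 175560 = [2, 2, 2, 3, 5, 7, 11, 19] := by simp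
  rw [hL] at hmem
  simp only [List.mem_cons, List.not_mem_nil, or_false] at hmem
  rcases hmem with rfl | rfl | rfl | rfl | rfl | rfl | rfl | rfl
  · exact hq2 rfl
  · exact hq2 rfl
  · exact hq2 rfl
  · exact (oe _ D.he).1 (h8 ▸ dvd_cofactor hqd D.de hu hH hcop)
  · exact (od _ D.hd).1 (h8 ▸ dvd_cofactor hqd D.dd hu hH hcop)
  · exact (oc _ D.hc).1 (h8 ▸ dvd_cofactor hqd D.dc hu hH hcop)
  · exact hq11 rfl
  · exact (oa _ D.ha).1 ((by norm_num : 4 ∣ 8).trans (h8 ▸ dvd_cofactor hqd D.da hu hH hcop))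

end Cfsg.Agent.Coprime.J1.ByOrder
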