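import Cfsg.Agent.Coprime.J1.ByOrder.SylowData
import Cfsg.Agent.Coprime.J1.Uniq.Iso
import Cfsg.Agent.BlockBasic.Local
import Cfsg.Agent.S0107
import Cfsg.Agent.S0201
import Cfsg.Agent.S4481
import Cfsg.Agent.S4482

/-!
# The Sylow two-subgroups of a simple group of order 175560

They are elementary abelian and all involutions are conjugate: the abelian groups of exponent greater
than two have a fixed involution, the quaternion group is excluded by Brauer--Suzuki and the dihedral
group by the order formula from the principal two-block.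
-/

set_option autoImplicit false

namespace Cfsg.Agent.Coprime.J1.ByOrder

open Subgroup
open Cfsg.Agent.S4274 (Dat opts)

variable {G : Type*} [Group G] [Finite G]

omit [Finite G] in
theorem center_dihedral_four : ∀ a b : DihedralGroup 4, (∀ x, a * x = x * a) → (∀ x, b * x = x * b) →
    a = 1 ∨ b = 1 ∨ a = b := by
  decide

/-- A central `p`-element lies in every Sylow subgroup. -/
theorem mem_sylow_of_central {p : ℕ} [Fact p.Prime] {z : G} (hz : orderOf z = p)
    (hc : ∀ g : G, g * z = z * g) (Q : Sylow p G) : z ∈ (Q : Subgroup G) := by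
  have hN : (zpowers z).Normal := ⟨fun x hx g => by
    obtain ⟨i, rfl⟩ := hx
    rw [(Commute.zpow_right (hc g) i).eq, mul_inv_cancel_right]
    exact ⟨i, rfl⟩⟩
  have hp : IsPGroup p (zpowers z) := IsPGroup.of_card (n := 1) (by rw [Nat.card_zpowers, hz, pow_one])
  obtain ⟨R, hR⟩ := hp.exists_le_sylow
  obtain ⟨g, rfl⟩ := MulAction.exists_smul_eq G Q R
  have h := hR (mem_zpowers z)
  rw [Sylow.coe_subgroup_smul] at h
  obtain ⟨x, hx, hxz⟩ := h
  have : x = z := by
    have h1 : g * x * g⁻¹ = z := hxz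
    calc x = g⁻¹ * (g * x * g⁻¹) * g := by group
      _ = z := by rw [h1, mul_assoc, ← hc g, inv_mul_cancel_left]
  exact this ▸ hx

theorem card_sylow_two (hn : Nat.card G = 175560) (S : Sylow 2 G) : Nat.card (S : Subgroup G) = 8 :=
  Uniq.sylow_card_of_order hn S

/-- The order of the centraliser of a four subgroup in the dihedral case. -/
theorem card_centralizer_pair [IsSimpleGroup G] (hn : Nat.card G = 175560) (S : Sylow 2 G)
    (e : (S : Subgroup G) ≃* DihedralGroup 4) {J τ : G} (hJo : orderOf J = 2) (hτo : orderOf τ = 2)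
    (hJτ : J ≠ τ) (hc : τ * J = J * τ) :
    ∃ α, Nat.card (centralizer ({J, τ} : Set G)) = 4 * α ∧ α ∣ 33 := by
  have : Fact (Nat.Prime 2) := ⟨Nat.prime_two⟩
  set K := centralizer ({J, τ} : Set G) with hK
  have hJK : J ∈ K := mem_centralizer_iff.2 (by rintro k (rfl | rfl); exacts [rfl, hc])
  have hτK : τ ∈ K := mem_centralizer_iff.2 (by rintro k (rfl | rfl); exacts [hc.symm, rfl])
  have hJc : ∀ g : K, g * ⟨J, hJK⟩ = ⟨J, hJK⟩ * g := fun g =>
    Subtype.ext (mem_centralizer_iff.1 g.2 J (Or.inl rfl)).symm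
  have hτc : ∀ g : K, g * ⟨τ, hτK⟩ = ⟨τ, hτK⟩ * g := fun g =>
    Subtype.ext (mem_centralizer_iff.1 g.2 τ (Or.inr rfl)).symm
  have hJK' : orderOf (⟨J, hJK⟩ : K) = 2 := by rw [Subgroup.orderOf_mk, hJo]
  have hτK' : orderOf (⟨τ, hτK⟩ : K) = 2 := by rw [Subgroup.orderOf_mk, hτo]
  obtain ⟨Q⟩ := Sylow.nonempty (p := 2) (G := K)
  have hJQ := mem_sylow_of_central hJK' hJc Q
  have hτQ := mem_sylow_of_central hτK' hτc Q
  set V := closure ({J, τ} : Set G) with hV
  set Q' := (Q : Subgroup K).map K.subtype with hQ'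
  have hVQ : V ≤ Q' := by
    rw [hV, closure_le]
    rintro g (rfl | rfl)
    · exact ⟨⟨_, hJK⟩, hJQ, rfl⟩
    · exact ⟨⟨_, hτK⟩, hτQ, rfl⟩
  have hcQ : Nat.card Q' = Nat.card (Q : Subgroup K) := card_map_of_injective K.subtype_injective
  obtain ⟨R, hR⟩ : ∃ R : Sylow 2 G, Q' ≤ R := (Q.2.map K.subtype).exists_le_sylow
  have h8 : Nat.card Q' ∣ 8 := card_sylow_two hn R ▸ card_dvd_of_le hR
  have hVne : V ≠ zpowers J := fun h => by
    have hm : τ ∈ zpowers J := h ▸ subset_closure (Or.inr rfl)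
    obtain ⟨i, hi⟩ := mem_zpowers_iff.1 hm
    rcases Int.even_or_odd i with ⟨j, rfl⟩ | ⟨j, rfl⟩
    · rw [← two_mul, zpow_mul, zpow_two, ← sq, ← hJo, pow_orderOf_eq_one, one_zpow] at hi
      rw [← hi, orderOf_one] at hτo; omega
    · rw [zpow_add_one, zpow_mul, zpow_two, ← sq, ← hJo, pow_orderOf_eq_one, one_zpow, one_mul] at hi
      exact hJτ hi
  have hJV : zpowers J ≤ V := zpowers_le.2 (subset_closure (Or.inl rfl))
  have h2V : 2 ∣ Nat.card V := by
    have := card_dvd_of_le hJV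
    rwa [Nat.card_zpowers, hJo] at this
  have hVlt : 2 < Nat.card V := by
    refine lt_of_le_of_ne (Nat.le_of_dvd Nat.card_pos h2V) fun h => hVne ?_
    exact (eq_of_le_of_card_ge hJV (by rw [Nat.card_zpowers, hJo, h])).symm
  have hQne : Nat.card Q' ≠ 8 := by
    intro h
    have hQR : Q' = (R : Subgroup G) := eq_of_le_of_card_ge hR (by rw [h, card_sylow_two hn R])
    obtain ⟨g, hg⟩ := MulAction.exists_smul_eq G R S
    let eR : (R : Subgroup G) ≃* (S : Subgroup G) :=
      (Subgroup.equivMapOfInjective (R : Subgroup G) (MulAut.conj g).toMonoidHom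
        (MulAut.conj g).injective).trans (MulEquiv.subgroupCongr (by rw [← hg]; rfl))
    let E := eR.trans e
    have hcen : ∀ (z : G) (hz : z ∈ (R : Subgroup G)), z ∈ ({J, τ} : Set G) →
        ∀ x, E ⟨z, hz⟩ * x = x * E ⟨z, hz⟩ := by
      intro z hz hzm x
      obtain ⟨⟨w, hw⟩, rfl⟩ := E.surjective x
      rw [← map_mul, ← map_mul]
      refine congrArg E (Subtype.ext ?_)
      obtain ⟨w', -, rfl⟩ := hQR.ge hw
      exact mem_centralizer_iff.1 w'.2 z hzm
    have hJR : J ∈ (R : Subgroup G) := hR (hVQ (hJV (mem_zpowers J)))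
    have hτR : τ ∈ (R : Subgroup G) := hR (hVQ (subset_closure (Or.inr rfl)))
    rcases center_dihedral_four _ _ (hcen J hJR (Or.inl rfl)) (hcen τ hτR (Or.inr rfl)) with h1 | h1 | h1
    · rw [← map_one E] at h1
      have h2 : J = 1 := congrArg Subtype.val (E.injective h1)
      exact (by rw [h2, orderOf_one] at hJo; omega : False)
    · rw [← map_one E] at h1
      have h2 : τ = 1 := congrArg Subtype.val (E.injective h1)
      exact (by rw [h2, orderOf_one] at hτo; omega : False)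
    · exact hJτ (congrArg Subtype.val (E.injective h1))
  have hdV := card_dvd_of_le hVQ
  have hQ4 : Nat.card Q' = 4 := by
    have hm := Nat.le_of_dvd Nat.card_pos hdV
    have hle := Nat.le_of_dvd (by norm_num) h8
    interval_cases hq : Nat.card Q' <;> omega
  have hV4 : Nat.card V = 4 := by
    rw [hQ4] at hdV
    have := Nat.le_of_dvd (by norm_num) hdV
    omega
  obtain ⟨α, hα⟩ : 4 ∣ Nat.card K :=
    hQ4 ▸ hcQ ▸ card_subgroup_dvd_card (Q : Subgroup K)
  have hodd : ¬ 2 ∣ α := fun h => by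
    have h8' : 2 ^ 3 ∣ Nat.card (Q : Subgroup K) :=
      Q.pow_dvd_card_of_pow_dvd_card (hα ▸ Nat.mul_dvd_mul_left 4 h)
    rw [← hcQ, hQ4] at h8'
    norm_num at h8'
  have hαG : α ∣ 175560 := hn ▸ (dvd_mul_left α 4).trans (hα ▸ card_subgroup_dvd_card K)
  have hcop : ∀ q, q ∈ [19, 7, 5] → ¬ q ∣ α := by
    intro q hq hd
    have : Fact q.Prime := ⟨by fin_cases hq <;> norm_num⟩
    obtain ⟨u, hu⟩ := exists_prime_orderOf_dvd_card' (G := K) q (hα ▸ dvd_mul_of_dvd_right hd 4)
    refine centralised_by_four hn hq (u := (u : G)) (by rw [Subgroup.orderOf_coe, hu]) (H := V) ?_ hV4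
    have hle : V ≤ centralizer ({(u : G)} : Set G) := by
      rw [hV, closure_le]
      intro k hk
      exact mem_centralizer_singleton_iff.2 (mem_centralizer_iff.1 u.2 k hk)
    exact fun h hh => (mem_centralizer_singleton_iff.1 (hle hh)).symm
  refine ⟨α, hα, ?_⟩
  have h1 : α ∣ 21945 := (Nat.Coprime.pow_right 3
    (Nat.coprime_two_right.2 (Nat.odd_iff.2 (by omega)))).dvd_of_dvd_mul_left
      (show α ∣ 2 ^ 3 * 21945 by norm_num; exact hαG)
  have h19 : α.Coprime 19 := ((Nat.Prime.coprime_iff_not_dvd (by norm_num)).2 (hcop 19 (by simp))).symm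
  have h7 : α.Coprime 7 := ((Nat.Prime.coprime_iff_not_dvd (by norm_num)).2 (hcop 7 (by simp))).symm
  have h5 : α.Coprime 5 := ((Nat.Prime.coprime_iff_not_dvd (by norm_num)).2 (hcop 5 (by simp))).symm
  exact Nat.Coprime.dvd_of_dvd_mul_left ((h19.mul_right h7).mul_right h5)
    (show α ∣ 19 * 7 * 5 * 33 by norm_num; exact h1)

theorem dihedral_arith :
    ∀ x ∈ Nat.divisors 21945, ∀ m ∈ Nat.divisors 21945, ∀ a ∈ ([1, 3, 11, 33] : List ℕ),
      ∀ b ∈ ([1, 3, 11, 33] : List ℕ), x ≠ 1 →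
      21945 * (x - 1) ^ 2 * (a * a * b * b) ≠ 8 * x * (x + 1) * m ^ 3 * (a + b) ^ 2 ∧
      21945 * (x + 1) ^ 2 * (a * a * b * b) ≠ 8 * x * (x - 1) * m ^ 3 * (a + b) ^ 2 := by
  decide +kernel

theorem no_dihedral [IsSimpleGroup G] (hn : Nat.card G = 175560) (S : Sylow 2 G) {c y : (S : Subgroup G)}
    (hc : orderOf c = 4) (hy : orderOf y = 2) (hrel : y * c * y⁻¹ = c⁻¹)
    (hgen : closure ({c, y} : Set (S : Subgroup G)) = ⊤)
    (e : (S : Subgroup G) ≃* DihedralGroup 4) : False := by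
  have : Fact (Nat.Prime 2) := ⟨Nat.prime_two⟩
  classical
  have hperf := perfect hn
  obtain ⟨M, hM⟩ := BlockBasic.exists_isPModular Nat.prime_two
  have hone : ∀ x z : G, orderOf x = 2 → orderOf z = 2 → IsConj x z := by
    intro x z hx hz
    have hO : pResidual 2 G = ⊤ :=
      (IsSimpleGroup.eq_bot_or_eq_top_of_normal _ (inferInstance : (pResidual 2 G).Normal)).resolve_left
        fun h => by
          obtain ⟨u, hu⟩ := exists_prime_orderOf_dvd_card' (G := G) 3 (hp := ⟨Nat.prime_three⟩)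
            (by rw [hn]; norm_num)
          have hm : u ∈ pResidual 2 G := subset_closure (show (orderOf u).Coprime 2 by rw [hu]; norm_num)
          rw [h, mem_bot] at hm
          rw [hm, orderOf_one] at hu
          omega
    obtain ⟨g, hg⟩ := S0107.result S 2 le_rfl ⟨e.trans (MulEquiv.refl _)⟩ hO x z hx hz
    exact isConj_iff.2 ⟨g, hg⟩
  set σ : G := (c : G) with hσ
  set τ : G := (y : G) with hτ
  have hσo : orderOf σ = 2 ^ (3 - 1) := by rw [hσ, Subgroup.orderOf_coe, hc]; norm_num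
  have hτo : orderOf τ = 2 := by rw [hτ, Subgroup.orderOf_coe, hy]
  have hrel' : τ * σ * τ⁻¹ = σ⁻¹ := congrArg Subtype.val hrel
  have hgen' : closure ({σ, τ} : Set G) = (S : Subgroup G) := by
    have h := congrArg (Subgroup.map (S : Subgroup G).subtype) hgen
    rw [MonoidHom.map_closure, ← MonoidHom.range_eq_map, range_subtype, Set.image_pair] at h
    exact h
  have hJo : orderOf (σ ^ 2) = 2 := by rw [orderOf_pow, hσo]; norm_num
  have hτσ : τ * σ = σ⁻¹ * τ := by rw [← hrel', inv_mul_cancel_right]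
  have hστo : orderOf (σ * τ) = 2 := by
    refine orderOf_eq_prime ?_ ?_
    · rw [sq, mul_assoc, ← mul_assoc τ σ τ, hτσ, mul_assoc, ← sq, ← hτo, pow_orderOf_eq_one, mul_one,
        mul_inv_cancel]
    · intro h
      have : σ = τ⁻¹ := eq_inv_of_mul_eq_one_left h
      rw [this, orderOf_inv, hτo] at hσo
      norm_num at hσo
  have hσ4 : σ ^ 4 = 1 := by rw [show 4 = orderOf σ by rw [hσo]; norm_num, pow_orderOf_eq_one]
  have hτσ2 : τ * σ ^ 2 = σ ^ 2 * τ := by
    have h : σ⁻¹ ^ 2 = σ ^ 2 := by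
      rw [inv_pow, inv_eq_iff_mul_eq_one, ← pow_add]
      exact hσ4
    calc τ * σ ^ 2 = (τ * σ * τ⁻¹) ^ 2 * τ := by rw [conj_pow, inv_mul_cancel_right]
      _ = σ ^ 2 * τ := by rw [hrel', h]
  have hne1 : σ ^ 2 ≠ τ := fun h => by
    have h1 : τ * σ * τ⁻¹ = σ := by rw [← h, ← pow_succ, pow_succ', mul_inv_cancel_right]
    rw [hrel'] at h1
    have := congrArg (· * σ) h1
    simp only [inv_mul_cancel, ← sq] at this
    rw [← this, orderOf_one] at hJo
    omega
  have hne2 : σ ^ 2 ≠ σ * τ := fun h => by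
    rw [sq] at h
    have h1 := mul_left_cancel h
    rw [h1, hτo] at hσo
    norm_num at hσo
  have hcστ : σ * τ * σ ^ 2 = σ ^ 2 * (σ * τ) := by
    rw [mul_assoc, hτσ2, ← mul_assoc, ← pow_succ', pow_succ, mul_assoc]
  obtain ⟨-, χ₁, χ₂, χ₃, χ', δ₁, δ₂, δ₃, hδ, -, -, -, h1, -, -, -, -, -, -, hB, hval, -⟩ :=
    S4481.result M hM 3 le_rfl S ⟨e.trans (MulEquiv.refl _)⟩ σ c.2 hσo
      (Complex.exp (2 * Real.pi * Complex.I / ((2 ^ (3 - 1) : ℕ) : ℂ)))
      (Complex.isPrimitiveRoot_exp _ (by norm_num))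
  have hχ : χ₁ ∈ principalBlock M G := by rw [hB]; exact Or.inr (Or.inl rfl)
  obtain ⟨hxne, hform⟩ := S4482.result M hM 3 le_rfl S σ τ c.2 y.2 hσo hτo hrel' hgen'
    ⟨hone _ _ hJo hτo, hone _ _ hJo hστo⟩ χ₁ hχ h1 δ₁ hδ (fun l h h' => (hval l h h').1)
  obtain ⟨a, ha, ha33⟩ := card_centralizer_pair hn S e hJo hτo hne1 hτσ2
  obtain ⟨b, hb, hb33⟩ := card_centralizer_pair hn S e hJo hστo hne2 hcστ
  set x := charDegree (χ₁ : G → ℂ) with hx
  set C := centralizer ({σ ^ 2} : Set G) with hC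
  obtain ⟨m, hm⟩ : 8 ∣ Nat.card C := by
    have hle : (S : Subgroup G) ≤ C := by
      rw [← hgen', closure_le]
      rintro k (rfl | rfl) <;> refine mem_centralizer_singleton_iff.2 ?_
      · rw [← pow_succ, ← pow_succ']
      · exact hτσ2
    exact card_sylow_two hn S ▸ card_dvd_of_le hle
  have hmd : m ∣ 21945 := by
    have h := hn ▸ hm ▸ card_subgroup_dvd_card C
    exact Nat.dvd_of_mul_dvd_mul_left (by norm_num) (show 8 * m ∣ 8 * 21945 by norm_num; exact h)
  have hxd : x ∣ 175560 := hn ▸ H30.ThreeDegrees.charDegree_dvd_card χ₁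
  have hm0 : 0 < m := Nat.pos_of_dvd_of_pos hmd (by norm_num)
  have hxpos : 0 < x := BlockBasic.charDegree_pos χ₁
  have ha0 : a ≠ 0 := by rintro rfl; norm_num at ha33
  have hb0 : b ≠ 0 := by rintro rfl; norm_num at hb33
  have hpow : σ ^ 2 ^ (3 - 2) = σ ^ 2 := by norm_num
  rw [hpow, ha, hb, ← hC, hm, hn] at hform
  have key : (21945 : ℤ) * ((x : ℤ) - δ₁) ^ 2 * ((a : ℤ) * a * b * b) =
      8 * x * ((x : ℤ) + δ₁) * (m : ℤ) ^ 3 * ((a : ℤ) + b) ^ 2 := by
    have hq : ((21945 : ℚ) * ((x : ℚ) - δ₁) ^ 2 * ((a : ℚ) * a * b * b)) =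
        8 * x * ((x : ℚ) + δ₁) * (m : ℚ) ^ 3 * ((a : ℚ) + b) ^ 2 := by
      have haq : (a : ℚ) ≠ 0 := Nat.cast_ne_zero.2 ha0
      have hbq : (b : ℚ) ≠ 0 := Nat.cast_ne_zero.2 hb0
      push_cast at hform
      field_simp at hform
      linarith
    exact_mod_cast hq
  have ha' : a ∈ ([1, 3, 11, 33] : List ℕ) := by
    have : a ∈ Nat.divisors 33 := Nat.mem_divisors.2 ⟨ha33, by norm_num⟩
    rw [show Nat.divisors 33 = {1, 3, 11, 33} by decide] at this
    simpa using this
  have hb' : b ∈ ([1, 3, 11, 33] : List ℕ) := by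
    have : b ∈ Nat.divisors 33 := Nat.mem_divisors.2 ⟨hb33, by norm_num⟩
    rw [show Nat.divisors 33 = {1, 3, 11, 33} by decide] at this
    simpa using this
  have hxodd : ¬ 2 ∣ x := by
    intro h2
    have e1 : Even (8 * (x : ℤ) * ((x : ℤ) + δ₁) * (m : ℤ) ^ 3 * ((a : ℤ) + b) ^ 2) := by
      refine ((((show Even (8 : ℤ) by decide).mul_right _).mul_right _).mul_right _).mul_right _
    rw [← key] at e1
    have oa : Odd (a : ℤ) := (Int.odd_coe_nat _).2 (Odd.of_dvd_nat (by decide) ha33)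
    have ob : Odd (b : ℤ) := (Int.odd_coe_nat _).2 (Odd.of_dvd_nat (by decide) hb33)
    have ox : Odd ((x : ℤ) - δ₁) := by
      have hxe : Even (x : ℤ) := (Int.even_coe_nat _).2 (even_iff_two_dvd.2 h2)
      rcases hδ with rfl | rfl
      · exact hxe.sub_odd odd_one
      · exact hxe.sub_odd (by decide)
    exact Int.not_even_iff_odd.2 (((show Odd (21945 : ℤ) by decide).mul ox.pow).mul
      (((oa.mul oa).mul ob).mul ob)) e1
  have hx21 : x ∈ Nat.divisors 21945 := Nat.mem_divisors.2 ⟨(Nat.Coprime.pow_right 3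
    (Nat.coprime_two_right.2 (Nat.odd_iff.2 (by omega)))).dvd_of_dvd_mul_left
      (show x ∣ 2 ^ 3 * 21945 by norm_num; exact hxd), by norm_num⟩
  have hx1 : x ≠ 1 := fun h => h1 (funext fun g => by
    rw [H30.ThreeDegrees.linear_apply_commutator h (hperf ▸ mem_top g), H30.ThreeDegrees.apply_one, ← hx, h,
      Nat.cast_one])
  obtain ⟨n1, n2⟩ := dihedral_arith x hx21 m (Nat.mem_divisors.2 ⟨hmd, by norm_num⟩) a ha' b hb' hx1
  have hx1' : 1 ≤ x := hxpos
  rcases hδ with rfl | rfl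
  · apply n1
    zify [hx1']
    exact key
  · apply n2
    zify [hx1']
    linear_combination key

/-- The Sylow two-subgroups are elementary abelian. -/
theorem sq_eq_one [IsSimpleGroup G] (hn : Nat.card G = 175560) (S : Sylow 2 G) :
    ∀ s ∈ (S : Subgroup G), s * s = 1 := by
  have : Fact (Nat.Prime 2) := ⟨Nat.prime_two⟩
  by_contra hne
  have hsq : ¬ ∀ x : (S : Subgroup G), x * x = 1 := fun h =>
    hne fun s hs => congrArg Subtype.val (h ⟨s, hs⟩)
  rcases order_eight (card_sylow_two hn S) hsq with ⟨hab, z, hz1, hz⟩ | ⟨c, y, hc, hy, hrel, hgen, ⟨e⟩⟩ | ⟨⟨e⟩⟩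
  · apply hz1
    apply Subtype.ext
    refine eq_one_of_fixed (perfect hn) S
      (fun a ha b hb => congrArg Subtype.val (hab ⟨a, ha⟩ ⟨b, hb⟩)) z.2 fun n hn' => ?_
    have h := congrArg Subtype.val (hz ((S : Subgroup G).normalizerMonoidHom ⟨n, hn'⟩))
    exact mul_inv_eq_iff_eq_mul.1 h
  · exact no_dihedral hn S hc hy hrel hgen e
  · have h := S0201.result S 0 (e.trans (MulEquiv.refl _)) (fun N hN hodd => by
      rcases hN.eq_bot_or_eq_top with h | h
      · exact h
      · subst h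
        rw [card_top, hn] at hodd
        exact absurd hodd (by decide))
    rcases (inferInstance : (Subgroup.center G).Normal).eq_bot_or_eq_top with hc | hc
    · rw [hc, card_bot] at h
      omega
    · rw [hc, card_top, hn] at h
      omega

theorem mul_comm_sylow [IsSimpleGroup G] (hn : Nat.card G = 175560) (S : Sylow 2 G) {a b : G}
    (ha : a ∈ (S : Subgroup G)) (hb : b ∈ (S : Subgroup G)) : a * b = b * a :=
  congrArg Subtype.val (comm_of_sq (G := (S : Subgroup G))
    (fun x => Subtype.ext (sq_eq_one hn S x x.2)) ⟨a, ha⟩ ⟨b, hb⟩)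

/-- The Sylow normaliser permutes the seven involutions transitively. -/
theorem exists_normalizer_conj [IsSimpleGroup G] (hn : Nat.card G = 175560) (S : Sylow 2 G) {a b : G}
    (ha : a ∈ (S : Subgroup G)) (hb : b ∈ (S : Subgroup G)) (ha1 : a ≠ 1) (hb1 : b ≠ 1) :
    ∃ n ∈ normalizer ((S : Subgroup G) : Set G), n * a * n⁻¹ = b := by
  classical
  have : Fact (Nat.Prime 2) := ⟨Nat.prime_two⟩
  set N := normalizer ((S : Subgroup G) : Set G) with hN
  let X := {x : (S : Subgroup G) // x ≠ 1}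
  letI : MulAction N X :=
    { smul := fun n x => ⟨⟨(n : G) * ((x.1 : (S : Subgroup G)) : G) * (n : G)⁻¹,
          (mem_normalizer_iff.1 n.2 _).1 x.1.2⟩, fun h => x.2 (Subtype.ext (by
            simpa using congrArg Subtype.val h))⟩
      one_smul := fun x => Subtype.ext (Subtype.ext (show (1 : G) * _ * (1 : G)⁻¹ = _ by
        rw [one_mul, inv_one, mul_one]))
      mul_smul := fun m n x => Subtype.ext (Subtype.ext (show ((m : G) * (n : G)) * _ * ((m : G) * (n : G))⁻¹ =
        (m : G) * ((n : G) * _ * (n : G)⁻¹) * (m : G)⁻¹ by group)) }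
  have := Fintype.ofFinite X
  have := Fintype.ofFinite (MulAction.orbitRel.Quotient N X)
  have hX : Nat.card X = 7 := by
    have := Fintype.ofFinite (S : Subgroup G)
    rw [Nat.card_eq_fintype_card, Fintype.card_subtype_compl, Fintype.card_subtype_eq,
      ← Nat.card_eq_fintype_card, card_sylow_two hn S]
  have hsmall : ∀ x : X, 3 ≤ Nat.card (MulAction.orbit N x) := by
    intro x
    have hodd : ¬ 2 ∣ Nat.card (MulAction.orbit N x) := by
      rw [Nat.card_congr (MulAction.orbitEquivQuotientStabilizer N x), ← Subgroup.index_eq_card]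
      intro h
      have hle : (S : Subgroup G).subgroupOf N ≤ MulAction.stabilizer N x := fun n hn' => by
        rw [MulAction.mem_stabilizer_iff]
        refine Subtype.ext (Subtype.ext (mul_inv_eq_iff_eq_mul.2 ?_))
        exact mul_comm_sylow hn S (mem_subgroupOf.1 hn') x.1.2
      have h2 := h.trans (index_dvd_of_le hle)
      exact S.not_dvd_index (h2.trans (relIndex_dvd_index_of_le le_normalizer))
    have hne : Nat.card (MulAction.orbit N x) ≠ 1 := by
      intro h1
      apply x.2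
      apply Subtype.ext
      refine eq_one_of_fixed (perfect hn) S (fun u hu v hv => mul_comm_sylow hn S hu hv) x.1.2
        fun n hn' => ?_
      have : Subsingleton (MulAction.orbit N x) := (Nat.card_eq_one_iff_unique.1 h1).1
      have h := congrArg (fun o : MulAction.orbit N x => ((o.1.1 : (S : Subgroup G)) : G))
        (Subsingleton.elim (⟨(⟨n, hn'⟩ : N) • x, MulAction.mem_orbit _ _⟩ : MulAction.orbit N x)
          ⟨x, MulAction.mem_orbit_self x⟩)
      exact mul_inv_eq_iff_eq_mul.1 h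
    have : 0 < Nat.card (MulAction.orbit N x) :=
      Nat.card_pos_iff.2 ⟨⟨⟨x, MulAction.mem_orbit_self x⟩⟩, inferInstance⟩
    omega
  let xa : X := ⟨⟨a, ha⟩, fun h => ha1 (congrArg Subtype.val h)⟩
  let xb : X := ⟨⟨b, hb⟩, fun h => hb1 (congrArg Subtype.val h)⟩
  by_cases hab : xb ∈ MulAction.orbit N xa
  · obtain ⟨n, hn'⟩ := hab
    exact ⟨n, n.2, congrArg (fun z : X => ((z.1 : (S : Subgroup G)) : G)) hn'⟩
  exfalso
  have hsum : ∑ ω : MulAction.orbitRel.Quotient N X, Nat.card (MulAction.orbitRel.Quotient.orbit ω) = 7 := by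
    rw [← Nat.card_sigma, ← Nat.card_congr (MulAction.selfEquivSigmaOrbits' N X), hX]
  have h3 : ∀ ω : MulAction.orbitRel.Quotient N X,
      3 ≤ Nat.card (MulAction.orbitRel.Quotient.orbit ω) := by
    intro ω
    rw [MulAction.orbitRel.Quotient.orbit_eq_orbit_out ω Quotient.out_eq']
    exact hsmall _
  have hodd : ∀ ω : MulAction.orbitRel.Quotient N X,
      Nat.card (MulAction.orbitRel.Quotient.orbit ω) % 2 = 1 := by
    intro ω
    rw [MulAction.orbitRel.Quotient.orbit_eq_orbit_out ω Quotient.out_eq']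
    rw [Nat.card_congr (MulAction.orbitEquivQuotientStabilizer N _), ← Subgroup.index_eq_card]
    have hle : (S : Subgroup G).subgroupOf N ≤ MulAction.stabilizer N (Quotient.out ω) := fun n hn' => by
      rw [MulAction.mem_stabilizer_iff]
      refine Subtype.ext (Subtype.ext (mul_inv_eq_iff_eq_mul.2 ?_))
      exact mul_comm_sylow hn S (mem_subgroupOf.1 hn') (Quotient.out ω).1.2
    by_contra h
    exact S.not_dvd_index (((Nat.dvd_of_mod_eq_zero (by omega)).trans (index_dvd_of_le hle)).trans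
      (relIndex_dvd_index_of_le le_normalizer))
  have h2 : 1 < Fintype.card (MulAction.orbitRel.Quotient N X) := by
    rw [Fintype.one_lt_card_iff]
    exact ⟨Quotient.mk'' xb, Quotient.mk'' xa, fun h => hab (MulAction.orbitRel_apply.1 (Quotient.eq''.1 h))⟩
  have hmod := Finset.sum_nat_mod (Finset.univ : Finset (MulAction.orbitRel.Quotient N X)) 2
    (fun ω => Nat.card (MulAction.orbitRel.Quotient.orbit ω))
  rw [Finset.sum_congr rfl (fun ω _ => hodd ω), hsum, Finset.sum_const, smul_eq_mul, mul_one,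
    Finset.card_univ] at hmod
  have hle := Finset.card_nsmul_le_sum (Finset.univ : Finset (MulAction.orbitRel.Quotient N X))
    (fun ω => Nat.card (MulAction.orbitRel.Quotient.orbit ω)) 3 (fun ω _ => h3 ω)
  rw [hsum, Finset.card_univ, smul_eq_mul] at hle
  omega

/-- All involutions are conjugate. -/
theorem isConj_involution [IsSimpleGroup G] (hn : Nat.card G = 175560) {a b : G}
    (ha : orderOf a = 2) (hb : orderOf b = 2) : IsConj a b := by
  have : Fact (Nat.Prime 2) := ⟨Nat.prime_two⟩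
  obtain ⟨P, hP⟩ := Agent.H36.exists_sylow_mem ha
  obtain ⟨Q, hQ⟩ := Agent.H36.exists_sylow_mem hb
  obtain ⟨g, rfl⟩ := MulAction.exists_smul_eq G P Q
  rw [Sylow.coe_subgroup_smul] at hQ
  obtain ⟨x, hx, hxb⟩ := hQ
  have hgx : g * x * g⁻¹ = b := hxb
  have hx1 : x ≠ 1 := fun h => by
    rw [h, mul_one, mul_inv_cancel] at hgx
    rw [← hgx, orderOf_one] at hb
    omega
  obtain ⟨n, -, rfl⟩ := exists_normalizer_conj hn P hP hx
    (fun h => by rw [h, orderOf_one] at ha; omega) hx1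
  exact isConj_iff.2 ⟨g * n, by rw [← hgx]; group⟩

end Cfsg.Agent.Coprime.J1.ByOrder
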